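import Mathlib

/-! Counting Sylow subgroups relative to a normal subgroup. -/

namespace Cfsg.Agent.SylowCount

open scoped Pointwise
open Subgroup

variable {G : Type*} [Group G] [Finite G] {p : ℕ} [hp : Fact p.Prime]

omit hp in
/-- `[HK : H] = [K : H ∩ K]` for `K` normal. -/
theorem relIndex_self_sup (H K : Subgroup G) [K.Normal] :
    H.relIndex (H ⊔ K) = H.relIndex K := by
  have h1 := relIndex_mul_relIndex (H := ⊥) (K := H) (L := H ⊔ K) bot_le le_sup_left
  have h2 := relIndex_mul_relIndex (H := ⊥) (K := K) (L := H ⊔ K) bot_le le_sup_right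
  have h3 := relIndex_mul_relIndex (H := ⊥) (K := K ⊓ H) (L := H) bot_le inf_le_right
  have h4 := relIndex_mul_relIndex (H := ⊥) (K := K ⊓ H) (L := K) bot_le inf_le_left
  rw [relIndex_sup_right] at h2
  simp only [relIndex_bot_left, inf_relIndex_right, inf_relIndex_left] at h1 h2 h3 h4
  rw [← h3, ← h2, ← h4] at h1
  have hpos : 0 < Nat.card ↥(K ⊓ H) := Nat.card_pos
  have hK : K.relIndex H ≠ 0 := by
    intro h0; rw [h0, mul_zero] at h3
    exact Nat.card_pos.ne' h3.symm
  have : Nat.card ↥(K ⊓ H) * K.relIndex H * H.relIndex (H ⊔ K) =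
      Nat.card ↥(K ⊓ H) * K.relIndex H * H.relIndex K := by rw [h1]; ring
  exact Nat.eq_of_mul_eq_mul_left (Nat.pos_of_ne_zero (Nat.mul_ne_zero hpos.ne' hK)) this

/-- `P ∩ K` is a Sylow subgroup of the normal subgroup `K`. -/
theorem exists_sylow_inf (P : Sylow p G) (K : Subgroup G) [K.Normal] :
    ∃ R : Sylow p K, (R : Subgroup K) = (P : Subgroup G).subgroupOf K := by
  obtain ⟨Q, hQ⟩ := (Sylow.nonempty.some : Sylow p K).exists_comap_subtype_eq
  obtain ⟨g, hg⟩ := MulAction.exists_smul_eq G P Q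
  refine ⟨(MulAut.conjNormal g⁻¹ : MulAut K) • (Sylow.nonempty.some : Sylow p K), ?_⟩
  ext x
  rw [Sylow.pointwise_smul_def, mem_pointwise_smul_iff_inv_smul_mem, ← hQ, mem_comap, ← hg,
    Sylow.coe_subgroup_smul, mem_pointwise_smul_iff_inv_smul_mem, mem_subgroupOf]
  simp [MulAut.smul_def, mul_assoc]

/-- `n_p(K) = [K : N_K(P ∩ K)]`. -/
theorem card_sylow_normal (P : Sylow p G) (K : Subgroup G) [K.Normal] :
    Nat.card (Sylow p K) =
      (normalizer (((P : Subgroup G) ⊓ K : Subgroup G) : Set G)).relIndex K := by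
  obtain ⟨R, hR⟩ := exists_sylow_inf P K
  rw [R.card_eq_index_normalizer]
  show (normalizer ((R : Subgroup K) : Set K)).index = _
  rw [hR, ← inf_subgroupOf_right (P : Subgroup G) K, ← subgroupOf_normalizer_eq inf_le_right]
  rfl

/-- Frattini: the normalizer of `PK` is `N(P)K`. -/
theorem normalizer_sup_normal (P : Sylow p G) (K : Subgroup G) [K.Normal] :
    normalizer (((P : Subgroup G) ⊔ K : Subgroup G) : Set G) =
      normalizer ((P : Subgroup G) : Set G) ⊔ K := by
  refine le_antisymm (fun g hg => ?_) (sup_le (fun g hg => ?_) ?_)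
  · have hgP : ((g • P : Sylow p G) : Subgroup G) ≤ (P : Subgroup G) ⊔ K := by
      intro x hx
      rw [Sylow.coe_subgroup_smul, mem_pointwise_smul_iff_inv_smul_mem] at hx
      have h := (mem_normalizer_iff.mp hg ((MulAut.conj g)⁻¹ • x)).mp (mem_sup_left hx)
      simpa [MulAut.smul_def, mul_assoc] using h
    obtain ⟨x, hx⟩ := MulAction.exists_smul_eq ↥((P : Subgroup G) ⊔ K)
      ((g • P).subtype hgP) (P.subtype le_sup_left)
    rw [Sylow.smul_subtype] at hx
    have h2 : (x : G) • g • P = P := Sylow.subtype_injective hx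
    rw [← mul_smul, Sylow.smul_eq_iff_mem_normalizer] at h2
    have : (x : G)⁻¹ * ((x : G) * g) ∈ normalizer ((P : Subgroup G) : Set G) ⊔ K :=
      mul_mem (inv_mem (sup_le_sup_right le_normalizer K x.2)) (mem_sup_left h2)
    simpa using this
  · have h1 : (MulAut.conj g : MulAut G) • (P : Subgroup G) = P := by
      rw [← Sylow.coe_subgroup_smul, Sylow.smul_eq_iff_mem_normalizer.mpr hg]
    have h2 : (MulAut.conj g : MulAut G) • K = K := Subgroup.Normal.conj_smul_eq_self g K
    rw [mem_normalizer_iff]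
    intro h
    conv_rhs => rw [← h1, ← h2, ← smul_sup]
    rw [mem_pointwise_smul_iff_inv_smul_mem]
    simp [MulAut.smul_def, mul_assoc]
  · exact le_trans le_sup_right le_normalizer

/-- `n_p(G/K) = [G : N(P)K]`. -/
theorem card_sylow_quotient (P : Sylow p G) (K : Subgroup G) [K.Normal] :
    Nat.card (Sylow p (G ⧸ K)) = (normalizer ((P : Subgroup G) : Set G) ⊔ K).index := by
  rw [(P.mapSurjective (QuotientGroup.mk'_surjective K)).card_eq_index_normalizer]
  show (normalizer (((P.mapSurjective (QuotientGroup.mk'_surjective K) : Sylow p (G ⧸ K)) :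
    Subgroup (G ⧸ K)) : Set (G ⧸ K))).index = _
  rw [Sylow.coe_mapSurjective, ← index_comap_of_surjective _ (QuotientGroup.mk'_surjective K),
    comap_normalizer_eq_of_surjective _ (QuotientGroup.mk'_surjective K), QuotientGroup.comap_map_mk',
    sup_comm K, normalizer_sup_normal]

/-- `n_p(G) = n_p(G/K) · [K : N_K(P)]`. -/
theorem card_sylow_eq (P : Sylow p G) (K : Subgroup G) [K.Normal] :
    Nat.card (Sylow p G) =
      Nat.card (Sylow p (G ⧸ K)) * (normalizer ((P : Subgroup G) : Set G)).relIndex K := by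
  rw [card_sylow_quotient P K, P.card_eq_index_normalizer, ← relIndex_self_sup, mul_comm,
    relIndex_mul_index le_sup_left]
  rfl

/-- A normal `p`-subgroup does not change the number of Sylow `p`-subgroups. -/
theorem card_sylow_quotient_pGroup (K : Subgroup G) [K.Normal] (hK : IsPGroup p K) :
    Nat.card (Sylow p (G ⧸ K)) = Nat.card (Sylow p G) := by
  obtain ⟨P⟩ : Nonempty (Sylow p G) := Sylow.nonempty
  rw [card_sylow_eq P K, relIndex_eq_one.mpr ((hK.le_sylow_of_normal P).trans le_normalizer),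
    mul_one]

end Cfsg.Agent.SylowCount
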