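import Cfsg.Agent.Lib.SylowCount.Basic
import Cfsg.Agent.Lib.CharInt.Burnside

/-!
Sylow numbers of a simple group: if `n_r` and `n_q` are coprime then `r` divides `n_q`.

If `r ∤ n_q` some `N(Q)` contains a Sylow `r`-subgroup `R`; coprime indices give
`G = N(Q) N(R)`, so every conjugate of `R` lies in `N(Q)`.
-/

set_option autoImplicit false
set_option linter.style.haveILetI false

namespace Cfsg.Agent.SylowCount

open Subgroup
open scoped Pointwise

universe u

/-- A product of two subgroups of coprime index is everything. -/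
theorem exists_mul_eq_of_coprime_index {G : Type u} [Group G] [Finite G] {A B : Subgroup G}
    (hco : A.index.Coprime B.index) (g : G) : ∃ a ∈ A, ∃ b ∈ B, g = a * b := by
  have hi : (A ⊓ B).index = A.index * B.index :=
    le_antisymm index_inf_le (Nat.le_of_dvd (Nat.pos_of_ne_zero index_ne_zero_of_finite)
      (hco.mul_dvd_of_dvd_of_dvd (index_dvd_of_le inf_le_left) (index_dvd_of_le inf_le_right)))
  have hrel : A.relIndex B = A.index := by
    have h := relIndex_mul_index (inf_le_right : A ⊓ B ≤ B)
    rw [hi, inf_relIndex_right] at h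
    exact Nat.eq_of_mul_eq_mul_right (Nat.pos_of_ne_zero index_ne_zero_of_finite) h
  let f : ↥B ⧸ A.subgroupOf B → G ⧸ A := fun q => ((q.out : B) : G)
  have hf : Function.Injective f := by
    intro q q' h
    rw [← QuotientGroup.out_eq' q, ← QuotientGroup.out_eq' q', QuotientGroup.eq]
    show (((q.out : B) : G))⁻¹ * ((q'.out : B) : G) ∈ A
    exact QuotientGroup.eq.1 h
  have hb := hf.bijective_of_nat_card_le (by rw [← index_eq_card, ← index_eq_card]; exact hrel.ge)
  obtain ⟨q, hq⟩ := hb.2 ((g⁻¹ : G) : G ⧸ A)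
  have h1 : ((q.out : B) : G)⁻¹ * g⁻¹ ∈ A := QuotientGroup.eq.1 hq
  exact ⟨(((q.out : B) : G)⁻¹ * g⁻¹)⁻¹, inv_mem h1, ((q.out : B) : G)⁻¹, inv_mem (q.out : B).2,
    by group⟩

variable {G : Type u} [Group G] [Finite G]

/-- In a simple group with `1 < n_q`, coprime Sylow numbers `n_r`, `n_q` force `r ∣ n_q`. -/
theorem dvd_card_sylow_of_coprime [IsSimpleGroup G] {r q : ℕ} [Fact r.Prime] [Fact q.Prime]
    (hrG : r ∣ Nat.card G) (hq : Nat.card (Sylow q G) ≠ 1)
    (hco : (Nat.card (Sylow r G)).Coprime (Nat.card (Sylow q G))) :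
    r ∣ Nat.card (Sylow q G) := by
  by_contra hn
  obtain ⟨Q⟩ : Nonempty (Sylow q G) := inferInstance
  set K := normalizer ((Q : Subgroup G) : Set G) with hK
  have hKi : K.index = Nat.card (Sylow q G) := Q.card_eq_index_normalizer.symm
  have hKtop : K ≠ ⊤ := fun e => hq (by rw [← hKi, e, index_top])
  obtain ⟨R₁⟩ : Nonempty (Sylow r K) := inferInstance
  obtain ⟨R, hR⟩ := R₁.exists_comap_subtype_eq
  have hRK : (R : Subgroup G) ≤ K := by
    have hp : IsPGroup r ((R₁ : Subgroup K).map K.subtype) := R₁.2.map _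
    have hnd : ¬ r ∣ ((R₁ : Subgroup K).map K.subtype).index := by
      rw [index_map_subtype, hKi]
      exact Nat.Prime.not_dvd_mul Fact.out R₁.not_dvd_index hn
    have hle : (R₁ : Subgroup K).map K.subtype ≤ R := by
      rw [map_le_iff_le_comap, hR]
    have h0 : (hp.toSylow hnd : Subgroup G) = (R₁ : Subgroup K).map K.subtype :=
      hp.toSylow_coe hnd
    have h1 : (R : Subgroup G) = (R₁ : Subgroup K).map K.subtype := by
      rw [← h0]; exact (hp.toSylow hnd).3 R.2 (h0.trans_le hle)
    rw [h1]; exact map_subtype_le _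
  have hRne : (R : Subgroup G) ≠ ⊥ := R.ne_bot_of_dvd_card hrG
  have hco' : K.index.Coprime (normalizer ((R : Subgroup G) : Set G)).index := by
    rw [hKi, show (normalizer ((R : Subgroup G) : Set G)).index = Nat.card (Sylow r G) from
      R.card_eq_index_normalizer.symm]
    exact hco.symm
  have hclo : normalClosure ((R : Subgroup G) : Set G) ≤ K := by
    rw [normalClosure, closure_le]
    intro y hy
    obtain ⟨x, hx, hc⟩ := Group.mem_conjugatesOfSet_iff.1 hy
    obtain ⟨g, rfl⟩ := isConj_iff.1 hc
    obtain ⟨k, hk, m, hm, rfl⟩ := exists_mul_eq_of_coprime_index hco' g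
    have h2 : m * x * m⁻¹ ∈ K := hRK ((mem_normalizer_iff.1 hm x).1 hx)
    have e : k * m * x * (k * m)⁻¹ = k * (m * x * m⁻¹) * k⁻¹ := by group
    rw [e]
    exact mul_mem (mul_mem hk h2) (inv_mem hk)
  rcases (normalClosure_normal : (normalClosure ((R : Subgroup G) : Set G)).Normal).eq_bot_or_eq_top
    with h | h
  · exact hRne (eq_bot_iff.2 (h ▸ le_normalClosure))
  · exact hKtop (top_unique (h ▸ hclo))

theorem isSolvable_of_primeFactors_card_le_two
    (h : (Nat.card G).primeFactors.card ≤ 2) : Group.IsSolvable G := by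
  have hne : Nat.card G ≠ 0 := Nat.card_pos.ne'
  have hprod := Nat.prod_factorization_pow_eq_self hne
  rw [Finsupp.prod, Nat.support_factorization] at hprod
  rcases lt_or_eq_of_le h with h1 | h1
  · rcases Nat.lt_or_eq_of_le (Nat.le_of_lt_succ h1) with h0 | h0
    · have he : (Nat.card G).primeFactors = ∅ := Finset.card_eq_zero.1 (by omega)
      rw [he, Finset.prod_empty] at hprod
      exact CharInt.isSolvable_of_card_eq (p := 2) (q := 3) (a := 0) (b := 0) Nat.prime_two
        Nat.prime_three (by simpa using hprod.symm)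
    · obtain ⟨a, ha⟩ := Finset.card_eq_one.1 h0
      rw [ha, Finset.prod_singleton] at hprod
      have hap : a.Prime := (Nat.mem_primeFactors.1 (by rw [ha]; simp)).1
      exact CharInt.isSolvable_of_card_eq (q := 2) (b := 0) hap Nat.prime_two
        (by simpa using hprod.symm)
  · obtain ⟨a, b, hab, he⟩ := Finset.card_eq_two.1 h1
    rw [he, Finset.prod_pair hab] at hprod
    exact CharInt.isSolvable_of_card_eq
      (Nat.mem_primeFactors.1 (by rw [he]; simp)).1
      (Nat.mem_primeFactors.1 (by rw [he]; simp)).1 hprod.symm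

/-- The Sylow numbers of a normal subgroup divide those of the group. -/
theorem card_sylow_dvd_of_normal (r : ℕ) [Fact r.Prime] (K : Subgroup G) [K.Normal] :
    Nat.card (Sylow r K) ∣ Nat.card (Sylow r G) := by
  obtain ⟨P⟩ : Nonempty (Sylow r G) := inferInstance
  rw [card_sylow_normal P K, card_sylow_eq P K]
  refine Dvd.dvd.trans (relIndex_dvd_of_le_left K ?_) (dvd_mul_left _ _)
  intro g hg
  rw [mem_normalizer_iff] at hg ⊢
  intro x
  exact and_congr (hg x) ⟨fun hx => (inferInstance : K.Normal).conj_mem x hx g, fun hx => by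
    have := (inferInstance : K.Normal).conj_mem _ hx g⁻¹
    simpa [mul_assoc] using this⟩

theorem card_sylow_quotient_dvd (r : ℕ) [Fact r.Prime] (K : Subgroup G) [K.Normal] :
    Nat.card (Sylow r (G ⧸ K)) ∣ Nat.card (Sylow r G) := by
  obtain ⟨P⟩ : Nonempty (Sylow r G) := inferInstance
  exact Dvd.intro _ (card_sylow_eq P K).symm

/-- All Sylow numbers being prime powers forces solvability. -/
theorem isSolvable_of_forall_isPrimePow : ∀ (n : ℕ) (G : Type u) [Group G] [Finite G],
    Nat.card G = n → (∀ (r : ℕ) [Fact r.Prime], Nat.card (Sylow r G) = 1 ∨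
      IsPrimePow (Nat.card (Sylow r G))) → Group.IsSolvable G := by
  intro n
  induction n using Nat.strong_induction_on with
  | _ n ih =>
  intro G _ _ hn h
  rcases subsingleton_or_nontrivial G with hs | hnt
  · infer_instance
  by_cases hsimple : IsSimpleGroup G
  · by_contra hns
    have h3 : 3 ≤ (Nat.card G).primeFactors.card := by
      by_contra h2
      exact hns (isSolvable_of_primeFactors_card_le_two (by omega))
    have hne1 : ∀ r ∈ (Nat.card G).primeFactors, ∀ [Fact r.Prime], Nat.card (Sylow r G) ≠ 1 := by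
      intro r hr _ h1
      obtain ⟨R⟩ : Nonempty (Sylow r G) := inferInstance
      have : Subsingleton (Sylow r G) := (Nat.card_eq_one_iff_unique.1 h1).1
      haveI : (R : Subgroup G).Normal := R.normal_of_subsingleton
      rcases (inferInstance : (R : Subgroup G).Normal).eq_bot_or_eq_top with e | e
      · exact R.ne_bot_of_dvd_card (Nat.mem_primeFactors.1 hr).2.1 e
      · apply hns
        have : IsPGroup r G := (e ▸ R.2 : IsPGroup r (⊤ : Subgroup G)).of_equiv topEquiv
        haveI := this.isNilpotent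
        infer_instance
    have hex : ∀ r ∈ (Nat.card G).primeFactors,
        ∃ q : ℕ, q.Prime ∧ q ∈ (Nat.card G).primeFactors ∧ q ≠ r ∧
        ∃ k : ℕ, 0 < k ∧ ∀ [Fact r.Prime], Nat.card (Sylow r G) = q ^ k := by
      intro r hr
      haveI : Fact r.Prime := ⟨(Nat.mem_primeFactors.1 hr).1⟩
      rcases h r with h1 | h1
      · exact absurd h1 (hne1 r hr)
      · obtain ⟨q, k, hq, hk, he⟩ := (isPrimePow_nat_iff _).1 h1
        have hdvd : q ∣ Nat.card (Sylow r G) := he ▸ dvd_pow_self q hk.ne'
        obtain ⟨R⟩ : Nonempty (Sylow r G) := inferInstance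
        refine ⟨q, hq, Nat.mem_primeFactors.2 ⟨hq, hdvd.trans (R.card_dvd_index.trans
          (index_dvd_card _)), Nat.card_pos.ne'⟩, ?_, k, hk, he.symm⟩
        rintro rfl
        exact not_dvd_card_sylow q G hdvd
    choose! f hfp hfm hfne k hk hcard using hex
    have key : ∀ a ∈ (Nat.card G).primeFactors, ∀ b ∈ (Nat.card G).primeFactors,
        f a ≠ f b → f b = a := by
      intro a ha b hb hab
      haveI : Fact a.Prime := ⟨(Nat.mem_primeFactors.1 ha).1⟩
      haveI : Fact b.Prime := ⟨(Nat.mem_primeFactors.1 hb).1⟩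
      have hd := dvd_card_sylow_of_coprime (r := a) (q := b) (Nat.mem_primeFactors.1 ha).2.1
        (hne1 b hb) (by
          rw [hcard a ha, hcard b hb]
          exact ((Nat.coprime_primes (hfp a ha) (hfp b hb)).2 hab).pow _ _)
      rw [hcard b hb] at hd
      exact ((Nat.prime_dvd_prime_iff_eq Fact.out (hfp b hb)).1
        ((Fact.out : a.Prime).dvd_of_dvd_pow hd)).symm
    obtain ⟨r, hr⟩ : (Nat.card G).primeFactors.Nonempty := Finset.card_pos.1 (by omega)
    have hq := hfm r hr
    have hqr : f r ≠ r := hfne r hr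
    have hfq : f (f r) = r := key r hr _ hq (fun e => hfne _ hq e.symm)
    obtain ⟨t, ht, htne⟩ := Finset.exists_mem_notMem_of_card_lt_card
      (s := ({r, f r} : Finset ℕ)) (t := (Nat.card G).primeFactors)
      (lt_of_le_of_lt Finset.card_le_two h3)
    simp only [Finset.mem_insert, Finset.mem_singleton, not_or] at htne
    have h1 : f t = f r := by
      by_contra hne
      exact htne.2 ((key t ht r hr hne).symm)
    have h2 : f t ≠ f (f r) := by rw [h1, hfq]; exact hqr
    exact htne.1 ((key t ht _ hq h2).symm.trans hfq)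
  · obtain ⟨N, hN, hN1, hN2⟩ : ∃ N : Subgroup G, N.Normal ∧ N ≠ ⊥ ∧ N ≠ ⊤ := by
      by_contra hcon
      push Not at hcon
      exact hsimple ⟨fun N hN => or_iff_not_imp_left.2 (hcon N hN)⟩
    haveI := hN
    have hd : ∀ {m : ℕ} {a : ℕ}, m ∣ a → (a = 1 ∨ IsPrimePow a) → m = 1 ∨ IsPrimePow m := by
      intro m a hm ha
      rcases ha with rfl | ha
      · exact Or.inl (Nat.dvd_one.1 hm)
      · by_cases hm1 : m = 1
        · exact Or.inl hm1
        · exact Or.inr (ha.dvd hm hm1)
    have hc := N.card_mul_index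
    have hNlt : Nat.card N < n := by
      rcases lt_or_eq_of_le (hn ▸ N.card_le_card_group) with h | h
      · exact h
      · exact absurd (eq_top_of_card_eq N (hn ▸ h)) hN2
    have hQlt : Nat.card (G ⧸ N) < n := by
      rw [← index_eq_card, ← hn, ← hc]
      exact lt_mul_of_one_lt_left (Nat.pos_of_ne_zero index_ne_zero_of_finite)
        (N.one_lt_card_iff_ne_bot.2 hN1)
    haveI := ih _ hNlt N rfl fun r _ => hd (card_sylow_dvd_of_normal r N) (h r)
    haveI := ih _ hQlt (G ⧸ N) rfl fun r _ => hd (card_sylow_quotient_dvd r N) (h r)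
    exact Group.isSolvable_of_ker_le_range N.subtype (QuotientGroup.mk' N) (by simp)

end Cfsg.Agent.SylowCount
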