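import Cfsg.Agent.Lib.SylowCount.Basic
import Cfsg.Agent.Lib.Coprime.Sylow

/-!
# M. Hall's factorisation of the number of Sylow subgroups

`exists_sylow_factorisation`: `n_p(G)` is a product of prime powers congruent to `1` modulo `p` and of
numbers of Sylow `p`-subgroups of simple groups.
-/

universe u

namespace Cfsg.Agent.SylowCount

open scoped Pointwise
open Subgroup

/-- Products of prime powers `≡ 1 (mod p)` and of Sylow numbers of simple groups. -/
def IsHallProduct (p : ℕ) (n : ℕ) : Prop :=
  ∃ l : List ℕ, l.prod = n ∧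
    ∀ m ∈ l, (IsPrimePow m ∧ m % p = 1) ∨
      ∃ (S : Type u) (_ : Group S) (_ : Finite S), IsSimpleGroup S ∧ m = Nat.card (Sylow p S)

theorem isHallProduct_one (p : ℕ) : IsHallProduct.{u} p 1 := ⟨[], rfl, by simp⟩

theorem IsHallProduct.mul {p m n : ℕ} (hm : IsHallProduct.{u} p m) (hn : IsHallProduct.{u} p n) :
    IsHallProduct.{u} p (m * n) := by
  obtain ⟨l, rfl, hl⟩ := hm
  obtain ⟨l', rfl, hl'⟩ := hn
  refine ⟨l ++ l', List.prod_append, fun x hx => ?_⟩
  rcases List.mem_append.mp hx with h | h
  · exact hl x h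
  · exact hl' x h

theorem isHallProduct_prod {p : ℕ} {ι : Type*} (s : Finset ι) (f : ι → ℕ)
    (h : ∀ i ∈ s, IsHallProduct.{u} p (f i)) : IsHallProduct.{u} p (∏ i ∈ s, f i) := by
  classical
  induction s using Finset.induction_on with
  | empty => simpa using isHallProduct_one p
  | @insert a t hat ih =>
    rw [Finset.prod_insert hat]
    exact (h a (Finset.mem_insert_self _ _)).mul (ih fun i hi => h i (Finset.mem_insert_of_mem hi))

variable {G : Type*} [Group G] [Finite G] {p : ℕ} [hp : Fact p.Prime]

/-- In a coprime action, each prime part of `[Y : C_Y(P)]` is `≡ 1 (mod p)`. -/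
theorem ordProj_relIndex_centralizer_modEq (P Y : Subgroup G) (hP : IsPGroup p P)
    (hPY : P ≤ normalizer (Y : Set G)) (hY : ¬ p ∣ Nat.card Y) (q : ℕ) [hq : Fact q.Prime] :
    q ^ ((centralizer (P : Set G)).relIndex Y).factorization q % p = 1 := by
  set C : Subgroup G := centralizer (P : Set G) with hCdef
  have hcop : (Nat.card P).Coprime (Nat.card Y) := by
    obtain ⟨n, hn⟩ := IsPGroup.iff_card.mp hP
    rw [hn]
    exact Nat.Coprime.pow_left _ ((hp.out.coprime_iff_not_dvd).2 hY)
  have hs : Group.IsSolvable P ∨ Group.IsSolvable Y := Or.inl (by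
    have : Group.IsNilpotent P := hP.isNilpotent
    infer_instance)
  obtain ⟨R⟩ : Nonempty (Sylow q (Y ⊓ C : Subgroup G)) := inferInstance
  set R' := (R : Subgroup (Y ⊓ C : Subgroup G)).map (Y ⊓ C).subtype with hR'
  have hR'le : R' ≤ Y ⊓ C := map_subtype_le _
  have hR'P : P ≤ normalizer (R' : Set G) := by
    intro x hx
    rw [mem_normalizer_iff]
    intro y
    constructor
    · intro hy
      have : x * y = y * x := mem_centralizer_iff.mp (hR'le hy).2 x hx
      rw [this, mul_inv_cancel_right]
      exact hy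
    · intro hy
      have h1 : x * (x * y * x⁻¹) = x * y * x⁻¹ * x := mem_centralizer_iff.mp (hR'le hy).2 x hx
      rw [inv_mul_cancel_right] at h1
      have h2 : x * y * x⁻¹ = y := mul_left_cancel h1
      rwa [h2] at hy
  obtain ⟨Q, hQR, hQP⟩ := Coprime.exists_invariant_sylow_ge hPY hcop hs (p := q)
    (hR'le.trans inf_le_left) (R.2.map _) hR'P
  set Q' := (Q : Subgroup Y).map Y.subtype with hQ'
  have hQY : Q' ≤ Y := map_subtype_le _
  have hQC : IsPGroup q ((Q' ⊓ C).subgroupOf (Y ⊓ C)) :=
    ((Q.2.map _ : IsPGroup q Q').to_le inf_le_left).comap_subtype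
  have hR : (Q' ⊓ C).subgroupOf (Y ⊓ C) = (R : Subgroup (Y ⊓ C : Subgroup G)) :=
    R.3 hQC fun y hy => ⟨hQR ⟨y, hy, rfl⟩, (y.2).2⟩
  have hcC : Nat.card (Q' ⊓ C : Subgroup G) =
      q ^ (Nat.card (Y ⊓ C : Subgroup G)).factorization q := by
    rw [← Coprime.card_subgroupOf (le_inf (inf_le_left.trans hQY) inf_le_right : Q' ⊓ C ≤ Y ⊓ C), hR]
    exact R.card_eq_multiplicity
  have hcQ : Nat.card Q' = q ^ (Nat.card Y).factorization q := by
    rw [hQ', card_map_of_injective Y.subtype_injective]
    exact Q.card_eq_multiplicity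
  -- orbit counting for the conjugation action of `P` on `Q'`
  have hmod : Nat.card Q' ≡ Nat.card (Q' ⊓ C : Subgroup G) [MOD p] := by
    let act : MulAction P Q' :=
      { smul := fun x y => ⟨(x : G) * y * (x : G)⁻¹, (mem_normalizer_iff.mp (hQP x.2) y).mp y.2⟩
        one_smul := fun y => Subtype.ext (by
          show ((1 : P) : G) * (y : G) * ((1 : P) : G)⁻¹ = y
          simp)
        mul_smul := fun x z y => Subtype.ext (by
          show ((x * z : P) : G) * (y : G) * ((x * z : P) : G)⁻¹ =
            (x : G) * ((z : G) * y * (z : G)⁻¹) * (x : G)⁻¹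
          simp [mul_assoc]) }
    have h := hP.card_modEq_card_fixedPoints Q'
    have e : MulAction.fixedPoints P Q' ≃ (Q' ⊓ C : Subgroup G) :=
      { toFun := fun y => ⟨((y : Q') : G), (y : Q').2, mem_centralizer_iff.mpr fun x hx => by
          have h2 : x * ((y : Q') : G) * x⁻¹ = ((y : Q') : G) :=
            congrArg Subtype.val (y.2 ⟨x, hx⟩)
          exact eq_mul_inv_iff_mul_eq.mp h2.symm |>.symm⟩
        invFun := fun y => ⟨⟨y, y.2.1⟩, fun x => Subtype.ext (by
          show (x : G) * (y : G) * (x : G)⁻¹ = y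
          rw [mem_centralizer_iff.mp y.2.2 x x.2, mul_inv_cancel_right])⟩
        left_inv := fun y => rfl
        right_inv := fun y => rfl }
    rwa [Nat.card_congr e] at h
  -- compare the exponents
  have hidx : C.relIndex Y * Nat.card (Y ⊓ C : Subgroup G) = Nat.card Y := by
    rw [← inf_relIndex_left Y C, ← Coprime.card_subgroupOf (inf_le_left : Y ⊓ C ≤ Y)]
    exact Subgroup.index_mul_card _
  have hrel : C.relIndex Y ≠ 0 := fun h0 => by
    rw [h0, zero_mul] at hidx
    exact Nat.card_pos.ne' hidx.symm
  have hfac : (Nat.card Y).factorization q = (C.relIndex Y).factorization q +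
      (Nat.card (Y ⊓ C : Subgroup G)).factorization q := by
    rw [← hidx, Nat.factorization_mul hrel Nat.card_pos.ne', Finsupp.add_apply]
  set e := (C.relIndex Y).factorization q with he
  set c := (Nat.card (Y ⊓ C : Subgroup G)).factorization q with hc
  rw [hcQ, hcC, hfac, pow_add] at hmod
  rcases eq_or_ne q p with rfl | hqp
  · have h0 : e = 0 := by
      have := Nat.factorization_eq_zero_of_not_dvd hY
      omega
    rw [h0, pow_zero]
    exact Nat.one_mod_eq_one.mpr hq.out.ne_one
  have hcop' : Nat.gcd p (q ^ c) = 1 :=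
    (((Nat.coprime_primes hp.out hq.out).2 hqp.symm).pow_right c)
  have h1 : q ^ e ≡ 1 [MOD p] :=
    Nat.ModEq.cancel_right_of_coprime hcop' (by rwa [one_mul])
  rw [h1, Nat.one_mod_eq_one.mpr hp.out.ne_one]

/-- `[Y : C_Y(P)]` for a `p`-group `P` normalising a `p'`-group `Y`. -/
theorem isHallProduct_relIndex_centralizer (P Y : Subgroup G) (hP : IsPGroup p P)
    (hPY : P ≤ normalizer (Y : Set G)) (hY : ¬ p ∣ Nat.card Y) :
    IsHallProduct.{u} p ((centralizer (P : Set G)).relIndex Y) := by
  set n := (centralizer (P : Set G)).relIndex Y with hn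
  have hn0 : n ≠ 0 := index_ne_zero_of_finite
  have hprod : ∏ q ∈ n.primeFactors, q ^ n.factorization q = n := by
    conv_rhs => rw [← Nat.prod_factorization_pow_eq_self hn0]
    rw [Finsupp.prod, Nat.support_factorization]
  rw [← hprod]
  refine isHallProduct_prod _ _ fun q hq => ?_
  haveI : Fact q.Prime := ⟨Nat.prime_of_mem_primeFactors hq⟩
  refine ⟨[q ^ n.factorization q], by simp, fun m hm => Or.inl ?_⟩
  rw [List.mem_singleton] at hm
  subst hm
  refine ⟨⟨q, n.factorization q, (Nat.prime_of_mem_primeFactors hq).prime, ?_, rfl⟩,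
    ordProj_relIndex_centralizer_modEq P Y hP hPY hY q⟩
  exact (Nat.prime_of_mem_primeFactors hq).factorization_pos_of_dvd hn0
    (Nat.dvd_of_mem_primeFactors hq)

theorem isHallProduct_card_sylow : ∀ (n : ℕ) (G : Type u) [Group G] [Finite G],
    Nat.card G = n → IsHallProduct.{u} p (Nat.card (Sylow p G)) := by
  intro n
  induction n using Nat.strong_induction_on with
  | _ n ih =>
    intro G _ _ hn
    subst hn
    rcases subsingleton_or_nontrivial G with hG | hG
    · have : Nat.card (Sylow p G) = 1 := by
        obtain ⟨P⟩ : Nonempty (Sylow p G) := inferInstance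
        haveI : Subsingleton (Sylow p G) :=
          ⟨fun A B => Sylow.ext (Subgroup.ext fun x => by
            rw [Subsingleton.elim x 1]; simp)⟩
        exact Nat.card_of_subsingleton P
      rw [this]; exact isHallProduct_one p
    by_cases hS : IsSimpleGroup G
    · exact ⟨[Nat.card (Sylow p G)], by simp, fun m hm => Or.inr ⟨G, _, ‹_›, hS, by simpa using hm⟩⟩
    obtain ⟨N, hN, hNb, hNt⟩ : ∃ N : Subgroup G, N.Normal ∧ N ≠ ⊥ ∧ N ≠ ⊤ := by
      by_contra hcon
      push Not at hcon
      exact hS ⟨fun H hH => or_iff_not_imp_left.mpr fun h => hcon H hH h⟩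
    have hlt : ∀ H : Subgroup G, H ≠ ⊤ → Nat.card H < Nat.card G := fun H hH =>
      lt_of_le_of_ne (Subgroup.card_le_card_group H)
        fun h => hH (Subgroup.card_eq_iff_eq_top H |>.mp h)
    have hquot : ∀ (M : Subgroup G) [M.Normal], M ≠ ⊥ → Nat.card (G ⧸ M) < Nat.card G := by
      intro M _ hM
      rw [← Subgroup.index_eq_card, ← M.card_mul_index]
      exact lt_mul_left (Nat.pos_of_ne_zero index_ne_zero_of_finite) ((Subgroup.one_lt_card_iff_ne_bot M).mpr hM)
    obtain ⟨P⟩ : Nonempty (Sylow p G) := inferInstance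
    rw [card_sylow_eq P N]
    refine (ih _ (hquot N hNb) _ rfl).mul ?_
    set NP := normalizer ((P : Subgroup G) : Set G) with hNP
    rcases ne_or_eq ((P : Subgroup G) ⊔ N) ⊤ with hM | hM
    · -- the group `P N` is proper
      have key := ih _ (hlt _ hM) _ rfl
      rw [(P.subtype le_sup_left).card_eq_index_normalizer] at key
      have e : (normalizer ((((P : Subgroup G).subgroupOf ((P : Subgroup G) ⊔ N)) :
          Subgroup ((P : Subgroup G) ⊔ N : Subgroup G)) :
            Set ((P : Subgroup G) ⊔ N : Subgroup G))).index = NP.relIndex N := by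
        rw [← subgroupOf_normalizer_eq le_sup_left]
        show NP.relIndex ((P : Subgroup G) ⊔ N) = NP.relIndex N
        refine le_antisymm ?_ (relIndex_le_of_le_right le_sup_right index_ne_zero_of_finite)
        rw [← relIndex_self_sup NP N]
        exact relIndex_le_of_le_right (sup_le_sup_right le_normalizer N) index_ne_zero_of_finite
      exact e ▸ key
    -- now `G = P N`
    set D := (P : Subgroup G) ⊓ N with hD
    set X := normalizer (D : Set G) with hX
    have hPX : (P : Subgroup G) ≤ X :=
      (le_inf (le_normalizer : (P : Subgroup G) ≤ NP) le_normalizer_of_normal).trans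
        (by intro x hx; exact inf_normalizer_le_normalizer_inf hx)
    have hNPX : NP ≤ X := fun x hx =>
      inf_normalizer_le_normalizer_inf ⟨hx, le_normalizer_of_normal (K := NP) hx⟩
    have hXN : X ⊔ N = ⊤ := eq_top_iff.mpr (hM ▸ sup_le_sup_right hPX N)
    have hNPN : NP ⊔ N = ⊤ := eq_top_iff.mpr (hM ▸ sup_le_sup_right le_normalizer N)
    have hidx : NP.relIndex N = NP.index := by
      rw [← relIndex_self_sup, hNPN, relIndex_top_right]
    rw [hidx]
    rcases ne_or_eq X ⊤ with hXt | hXt
    · rw [← relIndex_mul_index hNPX]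
      refine IsHallProduct.mul ?_ ?_
      · have key := ih _ (hlt _ hXt) _ rfl
        rw [(P.subtype hPX).card_eq_index_normalizer] at key
        have e : (normalizer ((((P : Subgroup G).subgroupOf X) : Subgroup X) : Set X)).index =
            NP.relIndex X := by
          rw [← subgroupOf_normalizer_eq hPX]; rfl
        exact e ▸ key
      · have key := ih _ (hlt _ hNt) _ rfl
        rw [card_sylow_normal P N, ← hD, ← hX, ← relIndex_self_sup, hXN, relIndex_top_right] at key
        exact key
    rw [show NP.index = Nat.card (Sylow p G) from P.card_eq_index_normalizer.symm]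
    haveI : D.Normal := normalizer_eq_top_iff.mp hXt
    rcases ne_or_eq D ⊥ with hDb | hDb
    · rw [← card_sylow_quotient_pGroup D (P.2.to_le inf_le_left)]
      exact ih _ (hquot D hDb) _ rfl
    · have hpN : ¬ p ∣ Nat.card N := by
        intro h
        obtain ⟨R, hR⟩ := exists_sylow_inf P N
        have hbot : (R : Subgroup N) = ⊥ := by
          rw [hR, ← inf_subgroupOf_right, ← hD, hDb, bot_subgroupOf]
        exact R.ne_bot_of_dvd_card h hbot
      rw [show Nat.card (Sylow p G) = NP.index from P.card_eq_index_normalizer, ← hidx]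
      have e : NP.relIndex N = (centralizer ((P : Subgroup G) : Set G)).relIndex N := by
        rw [← inf_relIndex_right NP N, ← inf_relIndex_right (centralizer _) N]
        congr 1
        refine le_antisymm ?_ (inf_le_inf_right N fun x hx => ?_)
        · intro x hx
          refine ⟨mem_centralizer_iff.mpr fun y hy => ?_, hx.2⟩
          have h1 : x * y * x⁻¹ * y⁻¹ ∈ D := by
            refine mem_inf.mpr ⟨mul_mem ((mem_normalizer_iff.mp hx.1 y).mp hy) (inv_mem hy), ?_⟩
            have := ‹N.Normal›.conj_mem _ (inv_mem hx.2) y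
            have h2 : x * (y * x⁻¹ * y⁻¹) ∈ N := mul_mem hx.2 this
            rwa [← mul_assoc, ← mul_assoc] at h2
          rw [hDb, mem_bot, mul_inv_eq_one, mul_inv_eq_iff_eq_mul] at h1
          exact h1.symm
        · exact centralizer_le_normalizer _ hx
      rw [e]
      exact isHallProduct_relIndex_centralizer _ N P.2 le_normalizer_of_normal hpN

/-- M. Hall: `n_p(G)` is a product of prime powers `≡ 1 (mod p)` and Sylow numbers of simple
groups. -/
theorem exists_sylow_factorisation {G : Type u} [Group G] [Finite G] (p : ℕ) [Fact p.Prime] :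
    ∃ l : List ℕ, l.prod = Nat.card (Sylow p G) ∧
      ∀ m ∈ l, (IsPrimePow m ∧ m % p = 1) ∨
        ∃ (S : Type u) (_ : Group S) (_ : Finite S), IsSimpleGroup S ∧ m = Nat.card (Sylow p S) :=
  isHallProduct_card_sylow _ G rfl

end Cfsg.Agent.SylowCount
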