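import Cfsg.Agent.Lib.SylowCount.Coprime
import Cfsg.Agent.Lib.SylowCount.Hall
import Cfsg.Agent.Lib.PCore.PSolvable
import Cfsg.Agent.Lib.BrauerPSL.Main

/-!
# Fewer than `p ^ 2` Sylow `p`-subgroups

All intersections of two distinct Sylow subgroups coincide with the intersection of all of them,
so a simple group of this kind has a Sylow subgroup of order `p` and Brauer's theorem applies.
-/

set_option autoImplicit false
set_option linter.style.haveILetI false

namespace Cfsg.Agent.SylowCount.BelowSq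

open Subgroup Cfsg
open scoped Pointwise commutatorElement

universe u

variable {G : Type u} [Group G] [Finite G] {p : ℕ} [hp : Fact p.Prime]

/-- The orbit of another Sylow subgroup under `X` has exactly `p` members. -/
theorem card_orbit (hn : Nat.card (Sylow p G) < p ^ 2) {X Q : Sylow p G} (h : Q ≠ X) :
    Nat.card (MulAction.orbit (X : Subgroup G) Q) = p ∧
      Nat.card ↥((X : Subgroup G) ⊓ (Q : Subgroup G)) * p = Nat.card (X : Subgroup G) := by
  have hst : MulAction.stabilizer (X : Subgroup G) Q =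
      ((X : Subgroup G) ⊓ (Q : Subgroup G)).subgroupOf (X : Subgroup G) := by
    ext x
    rw [MulAction.mem_stabilizer_iff, mem_subgroupOf, ← X.2.inf_normalizer_sylow Q]
    show (x : G) • Q = Q ↔ _
    rw [Sylow.smul_eq_iff_mem_normalizer]
    simp [x.2]
  have hcard : Nat.card ↥((X : Subgroup G) ⊓ (Q : Subgroup G)) *
      Nat.card (MulAction.orbit (X : Subgroup G) Q) = Nat.card (X : Subgroup G) := by
    rw [← Coprime.card_subgroupOf (inf_le_left : (X : Subgroup G) ⊓ (Q : Subgroup G) ≤ X), ← hst,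
      Nat.card_coe_set_eq, ← MulAction.index_stabilizer]
    exact card_mul_index _
  obtain ⟨e, he⟩ := X.2.card_orbit Q
  have hlt : Nat.card (MulAction.orbit (X : Subgroup G) Q) < p ^ 2 :=
    lt_of_le_of_lt (Nat.card_le_card_of_injective _ Subtype.val_injective) hn
  have he1 : e = 1 := by
    rcases e with _ | _ | e
    · exfalso
      rw [he, pow_zero, mul_one] at hcard
      have h1 : (X : Subgroup G) ⊓ (Q : Subgroup G) = X :=
        eq_of_le_of_card_ge inf_le_left hcard.ge
      exact h (Sylow.ext (X.3 Q.2 (inf_eq_left.mp h1)))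
    · rfl
    · exfalso
      rw [he] at hlt
      have := (Nat.pow_lt_pow_iff_right hp.out.one_lt).mp hlt
      omega
  rw [he, he1, pow_one] at hcard
  exact ⟨by rw [he, he1, pow_one], hcard⟩

/-- The intersection is normal in either of the two Sylow subgroups. -/
theorem conj_inf (hn : Nat.card (Sylow p G) < p ^ 2) {X Q : Sylow p G} (h : Q ≠ X) {x : G}
    (hx : x ∈ X) :
    ((x • X : Sylow p G) : Subgroup G) ⊓ ((x • Q : Sylow p G) : Subgroup G) =
      (X : Subgroup G) ⊓ (Q : Subgroup G) := by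
  rw [Sylow.coe_subgroup_smul, Sylow.coe_subgroup_smul, ← Subgroup.smul_inf]
  set M := (X : Subgroup G) ⊓ (Q : Subgroup G) with hM
  have hidx : (M.subgroupOf (X : Subgroup G)).index = p := by
    have h1 := card_mul_index (M.subgroupOf (X : Subgroup G))
    rw [Coprime.card_subgroupOf inf_le_left, ← (card_orbit hn h).2] at h1
    exact Nat.eq_of_mul_eq_mul_left Nat.card_pos h1
  haveI : (M.subgroupOf (X : Subgroup G)).Normal := by
    refine normal_of_index_eq_minFac_card ?_
    obtain ⟨k, hk⟩ := IsPGroup.iff_card.mp X.2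
    rcases k with _ | k
    · exfalso
      have h2 := (card_orbit hn h).2
      rw [hk, pow_zero, mul_eq_one] at h2
      exact hp.out.ne_one h2.2
    · rw [hidx, hk, Nat.pow_minFac k.succ_ne_zero, hp.out.minFac_eq]
  refine eq_of_le_of_card_ge (fun y hy => ?_) (le_of_eq ?_)
  · rw [mem_pointwise_smul_iff_inv_smul_mem] at hy
    simp only [MulAut.smul_def, ← map_inv, MulAut.conj_apply, inv_inv] at hy
    have := Normal.conj_mem (inferInstance : (M.subgroupOf (X : Subgroup G)).Normal)
      ⟨_, (mem_inf.mp hy).1⟩ (show _ from hy) ⟨x, hx⟩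
    simpa [mem_subgroupOf, mul_assoc] using this
  · exact (Nat.card_congr (equivSMul _ M).toEquiv)

theorem eq_of_le_inf (hn : Nat.card (Sylow p G) < p ^ 2) {A B C D : Sylow p G} (hBA : B ≠ A)
    (hDC : D ≠ C) (h : (A : Subgroup G) ⊓ (B : Subgroup G) ≤ (C : Subgroup G) ⊓ (D : Subgroup G)) :
    (A : Subgroup G) ⊓ (B : Subgroup G) = (C : Subgroup G) ⊓ (D : Subgroup G) := by
  refine eq_of_le_of_card_ge h ?_
  have h1 := (card_orbit hn hBA).2
  rw [Nat.card_congr (A.equiv C).toEquiv, ← (card_orbit hn hDC).2] at h1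
  exact (Nat.eq_of_mul_eq_mul_right hp.out.pos h1).ge

/-- All pairwise intersections at a fixed Sylow subgroup coincide. -/
theorem inf_eq_inf (hn : Nat.card (Sylow p G) < p ^ 2) {P Q₁ Q₂ : Sylow p G} (h₁ : Q₁ ≠ P)
    (h₂ : Q₂ ≠ P) :
    (P : Subgroup G) ⊓ (Q₁ : Subgroup G) = (P : Subgroup G) ⊓ (Q₂ : Subgroup G) := by
  classical
  by_contra hne
  haveI : Fintype (Sylow p G) := Fintype.ofFinite _
  haveI : Fintype (MulAction.orbit (P : Subgroup G) Q₂) := Fintype.ofFinite _
  set O := (MulAction.orbit (P : Subgroup G) Q₂).toFinset with hO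
  have hOc : O.card = p := by
    rw [hO, Set.toFinset_card, ← Nat.card_eq_fintype_card, (card_orbit hn h₂).1]
  have hOP : ∀ Y ∈ O, Y ≠ P ∧
      (P : Subgroup G) ⊓ (Y : Subgroup G) = (P : Subgroup G) ⊓ (Q₂ : Subgroup G) := by
    intro Y hY
    rw [hO, Set.mem_toFinset] at hY
    obtain ⟨x, rfl⟩ := hY
    have hxP : (x : G) • P = P := Sylow.smul_eq_iff_mem_normalizer.mpr (le_normalizer x.2)
    refine ⟨fun e => h₂ ?_, ?_⟩
    · have : (x : G) • Q₂ = (x : G) • P := e.trans hxP.symm
      exact smul_left_cancel _ this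
    · have := conj_inf hn h₂ x.2
      rwa [hxP] at this
  have hY1 : ∀ Y ∈ O, Y ≠ Q₁ := by
    intro Y hY e
    exact hne (e ▸ (hOP Y hY).2)
  let f : Sylow p G → Subgroup G := fun Y => (Q₁ : Subgroup G) ⊓ (Y : Subgroup G)
  set s := Finset.univ.filter (fun Y : Sylow p G => Y ≠ Q₁) with hs
  have hinj : Set.InjOn f O := by
    intro Y hY Y' hY' e
    by_contra hYY'
    have hM : f Y ≤ (Y : Subgroup G) ⊓ (Y' : Subgroup G) :=
      le_inf inf_le_right (e.le.trans inf_le_right)
    have h3 : f Y = (Y : Subgroup G) ⊓ (Y' : Subgroup G) :=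
      eq_of_le_inf hn (hY1 Y hY) (Ne.symm hYY') hM
    have h4 : (P : Subgroup G) ⊓ (Q₂ : Subgroup G) = (Y : Subgroup G) ⊓ (Y' : Subgroup G) :=
      eq_of_le_inf hn h₂ (Ne.symm hYY') (le_inf ((hOP Y hY).2.ge.trans inf_le_right)
        ((hOP Y' hY').2.ge.trans inf_le_right))
    refine hne (eq_of_le_inf hn h₂ h₁ (le_inf inf_le_left ?_)).symm
    rw [h4, ← h3]
    exact inf_le_left
  have hnotmem : (P : Subgroup G) ⊓ (Q₁ : Subgroup G) ∉ O.image f := by
    intro hm
    obtain ⟨Y, hY, e⟩ := Finset.mem_image.mp hm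
    refine hne (eq_of_le_inf hn h₁ h₂ ?_)
    rw [← (hOP Y hY).2]
    exact le_inf inf_le_left (e.ge.trans inf_le_right)
  have himg : insert ((P : Subgroup G) ⊓ (Q₁ : Subgroup G)) (O.image f) ⊆ s.image f := by
    intro M hM
    rcases Finset.mem_insert.mp hM with rfl | hM
    · exact Finset.mem_image.mpr ⟨P, by simp [hs, h₁.symm], inf_comm _ _⟩
    · obtain ⟨Y, hY, rfl⟩ := Finset.mem_image.mp hM
      exact Finset.mem_image.mpr ⟨Y, by simp [hs, hY1 Y hY], rfl⟩
  have hc1 := Finset.card_le_card himg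
  rw [Finset.card_insert_of_notMem hnotmem, Finset.card_image_of_injOn hinj, hOc] at hc1
  have hc2 : p * (s.image f).card ≤ s.card := by
    refine Finset.mul_card_image_le_card s p fun M hM => ?_
    obtain ⟨Y, hY, rfl⟩ := Finset.mem_image.mp hM
    have hYQ : Y ≠ Q₁ := by simpa [hs] using hY
    haveI : Fintype (MulAction.orbit (Q₁ : Subgroup G) Y) := Fintype.ofFinite _
    have hor : (MulAction.orbit (Q₁ : Subgroup G) Y).toFinset.card = p := by
      rw [Set.toFinset_card, ← Nat.card_eq_fintype_card, (card_orbit hn hYQ).1]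
    refine hor.ge.trans (Finset.card_le_card fun Z hZ => ?_)
    rw [Set.mem_toFinset] at hZ
    obtain ⟨x, rfl⟩ := hZ
    have hxQ : (x : G) • Q₁ = Q₁ := Sylow.smul_eq_iff_mem_normalizer.mpr (le_normalizer x.2)
    refine Finset.mem_filter.mpr ⟨Finset.mem_filter.mpr ⟨Finset.mem_univ _, fun e => hYQ ?_⟩, ?_⟩
    · exact smul_left_cancel (x : G) (e.trans hxQ.symm)
    · have := conj_inf hn hYQ x.2
      rwa [hxQ] at this
  have hc3 : s.card ≤ Nat.card (Sylow p G) := by
    rw [Nat.card_eq_fintype_card]; exact Finset.card_le_univ s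
  have hc4 : p * (p + 1) ≤ p * (s.image f).card := Nat.mul_le_mul_left p hc1
  have : p ^ 2 ≤ p * (p + 1) := by rw [sq]; exact Nat.mul_le_mul_left p (Nat.le_succ p)
  omega

/-- In a simple group that is not `p`-soluble the Sylow subgroups have order `p`. -/
theorem card_sylow_eq_prime [IsSimpleGroup G] (hn : Nat.card (Sylow p G) < p ^ 2)
    (h1 : Nat.card (Sylow p G) ≠ 1) (P : Sylow p G) : Nat.card (P : Subgroup G) = p := by
  haveI : Nontrivial (Sylow p G) := by
    rw [← Finite.one_lt_card_iff_nontrivial]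
    have : 0 < Nat.card (Sylow p G) := Nat.card_pos
    omega
  obtain ⟨Q₀, hQ₀⟩ := exists_ne P
  set R := (P : Subgroup G) ⊓ (Q₀ : Subgroup G) with hR
  have hle : ∀ Q : Sylow p G, R ≤ (Q : Subgroup G) := by
    intro Q
    rcases eq_or_ne Q P with rfl | hQ
    · exact inf_le_left
    · exact (inf_eq_inf hn hQ₀ hQ).le.trans inf_le_right
  haveI hRn : R.Normal := ⟨fun x hx g => by
    have key : ∀ Q : Sylow p G, g * x * g⁻¹ ∈ (Q : Subgroup G) := by
      intro Q
      have := hle (g⁻¹ • Q) hx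
      rw [Sylow.coe_subgroup_smul, mem_pointwise_smul_iff_inv_smul_mem] at this
      simpa [MulAut.smul_def, mul_assoc] using this
    exact ⟨key P, key Q₀⟩⟩
  rcases hRn.eq_bot_or_eq_top with h | h
  · have h2 := (card_orbit hn hQ₀).2
    rw [← hR, h, card_bot, one_mul] at h2
    exact h2.symm
  · exfalso
    apply hQ₀
    refine Sylow.ext ((eq_top_iff.mpr ?_).trans (eq_top_iff.mpr ?_).symm) <;> rw [← h]
    · exact inf_le_right
    · exact inf_le_left

/-- Prime divisors contribute factors congruent to `1` modulo `p`. -/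
def PartsOne (p n : ℕ) : Prop :=
  n ≠ 0 ∧ ∀ q : ℕ, q.Prime → q ^ n.factorization q % p = 1

omit [Group G] [Finite G] in
theorem PartsOne.mul {a b : ℕ} (ha : PartsOne p a) (hb : PartsOne p b) : PartsOne p (a * b) := by
  refine ⟨Nat.mul_ne_zero ha.1 hb.1, fun q hq => ?_⟩
  rw [Nat.factorization_mul ha.1 hb.1, Finsupp.add_apply, pow_add, Nat.mul_mod, ha.2 q hq,
    hb.2 q hq, one_mul, Nat.mod_eq_of_lt hp.out.one_lt]

omit [Group G] [Finite G] in
theorem partsOne_one : PartsOne p 1 :=
  ⟨one_ne_zero, fun q _ => by simp [Nat.mod_eq_of_lt hp.out.one_lt]⟩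

omit [Group G] [Finite G] in
theorem PartsOne.primePow {n : ℕ} (h : PartsOne p n) (hlt : n < p ^ 2) :
    ∃ q k : ℕ, q.Prime ∧ n = q ^ k := by
  obtain ⟨hn0, h⟩ := h
  by_cases hn1 : n = 1
  · exact ⟨2, 0, Nat.prime_two, by simpa using hn1⟩
  set q := n.minFac with hq
  have hqp : q.Prime := Nat.minFac_prime hn1
  refine ⟨q, n.factorization q, hqp, ?_⟩
  by_contra hne
  have hdvd := Nat.ordProj_dvd n q
  have hpos : 0 < n.factorization q := hqp.factorization_pos_of_dvd hn0 (Nat.minFac_dvd n)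
  have hbig : ∀ r : ℕ, r.Prime → 0 < n.factorization r → p + 1 ≤ r ^ n.factorization r := by
    intro r hr hr0
    have h1 := h r hr
    have h2 : 1 < r ^ n.factorization r := Nat.one_lt_pow hr0.ne' hr.one_lt
    by_contra hlt'
    rcases Nat.lt_or_eq_of_le (Nat.lt_succ_iff.mp (not_le.mp hlt')) with h3 | h3
    · rw [Nat.mod_eq_of_lt h3] at h1; omega
    · rw [h3, Nat.mod_self] at h1; omega
  obtain ⟨c, hc⟩ := hdvd
  have hc1 : c ≠ 1 := fun e => hne (by rw [e, mul_one] at hc; exact hc)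
  obtain ⟨r, hr, hrc⟩ := Nat.exists_prime_and_dvd hc1
  have hrn : r ∣ n := hc ▸ hrc.mul_left _
  have hcdiv : c = n / q ^ n.factorization q := by
    conv_rhs => arg 1; rw [hc]
    rw [Nat.mul_div_cancel_left _ (pow_pos hqp.pos _)]
  have hrq : r ≠ q := fun e => (Nat.not_dvd_ordCompl hqp hn0) (hcdiv ▸ e ▸ hrc)
  have hco : (q ^ n.factorization q).Coprime (r ^ n.factorization r) :=
    ((Nat.coprime_primes hqp hr).2 hrq.symm).pow _ _
  have hle := Nat.le_of_dvd (Nat.pos_of_ne_zero hn0)
    (hco.mul_dvd_of_dvd_of_dvd (Nat.ordProj_dvd n q) (Nat.ordProj_dvd n r))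
  have := Nat.mul_le_mul (hbig q hqp hpos) (hbig r hr (hr.factorization_pos_of_dvd hn0 hrn))
  nlinarith

theorem partsOne_card_sylow : ∀ (n : ℕ) (G : Type u) [Group G] [Finite G],
    Nat.card G = n → IsPSolvable p G → PartsOne p (Nat.card (Sylow p G)) := by
  intro n
  induction n using Nat.strong_induction_on with
  | _ n ih =>
    intro G _ _ hn hG
    subst hn
    rcases subsingleton_or_nontrivial G with hs | hnt
    · obtain ⟨P⟩ : Nonempty (Sylow p G) := inferInstance
      haveI : Subsingleton (Sylow p G) := ⟨fun a b => Sylow.ext (Subgroup.ext fun x => by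
        rw [Subsingleton.elim x 1]; exact ⟨fun _ => one_mem _, fun _ => one_mem _⟩)⟩
      rw [Nat.card_of_subsingleton P]
      exact partsOne_one
    obtain ⟨N, hNn, hNb, hN⟩ : ∃ N : Subgroup G, N.Normal ∧ N ≠ ⊥ ∧
        (IsPGroup p N ∨ (Nat.card N).Coprime p) := by
      rcases PCore.pCore_ne_bot_or_pPrimeCore_ne_bot hG with h | h
      · exact ⟨_, inferInstance, h, Or.inl PCore.isPGroup_pCore⟩
      · exact ⟨_, inferInstance, h, Or.inr PCore.coprime_card_pPrimeCore⟩
    have hlt : Nat.card (G ⧸ N) < Nat.card G := by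
      rw [card_eq_card_quotient_mul_card_subgroup N]
      exact lt_mul_of_one_lt_right Nat.card_pos ((one_lt_card_iff_ne_bot N).2 hNb)
    have hq := ih _ hlt (G ⧸ N) rfl (PCore.isPSolvable_quotient hG N)
    rcases hN with hN | hN
    · exact card_sylow_quotient_pGroup N hN ▸ hq
    obtain ⟨P⟩ : Nonempty (Sylow p G) := inferInstance
    rw [card_sylow_eq P N]
    refine hq.mul ?_
    have hpN : ¬ p ∣ Nat.card N := (Nat.Prime.coprime_iff_not_dvd hp.out).mp hN.symm
    have hbot : (P : Subgroup G) ⊓ N = ⊥ := by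
      apply inf_eq_bot_of_coprime
      obtain ⟨k, hk⟩ := IsPGroup.iff_card.mp P.2
      rw [hk]
      exact (hp.out.coprime_iff_not_dvd.mpr hpN).pow_left k
    have e : (normalizer ((P : Subgroup G) : Set G)).relIndex N =
        (centralizer ((P : Subgroup G) : Set G)).relIndex N := by
      rw [← inf_relIndex_right, ← inf_relIndex_right (centralizer _) N]
      congr 1
      refine le_antisymm ?_ (inf_le_inf_right N fun x hx => centralizer_le_normalizer _ hx)
      intro x hx
      refine ⟨mem_centralizer_iff.mpr fun y hy => ?_, hx.2⟩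
      have h1 : x * y * x⁻¹ * y⁻¹ ∈ (P : Subgroup G) ⊓ N := by
        refine mem_inf.mpr ⟨mul_mem ((mem_normalizer_iff.mp hx.1 y).mp hy) (inv_mem hy), ?_⟩
        have h2 : x * (y * x⁻¹ * y⁻¹) ∈ N := mul_mem hx.2 (hNn.conj_mem _ (inv_mem hx.2) y)
        rwa [← mul_assoc, ← mul_assoc] at h2
      rw [hbot, mem_bot, mul_inv_eq_one, mul_inv_eq_iff_eq_mul] at h1
      exact h1.symm
    rw [e]
    refine ⟨index_ne_zero_of_finite, fun q hqp => ?_⟩
    haveI : Fact q.Prime := ⟨hqp⟩
    exact ordProj_relIndex_centralizer_modEq (P : Subgroup G) N P.2 le_normalizer_of_normal hpN q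

/-- A `p`-soluble group with fewer than `p ^ 2` Sylow subgroups has a prime power number of them. -/
theorem primePow_of_isPSolvable (hG : IsPSolvable p G) (hn : Nat.card (Sylow p G) < p ^ 2) :
    ∃ q k : ℕ, q.Prime ∧ Nat.card (Sylow p G) = q ^ k :=
  (partsOne_card_sylow _ G rfl hG).primePow hn

/-- The three possibilities for the number of Sylow subgroups of a simple group. -/
theorem simple_cases [IsSimpleGroup G] (hG : ¬ IsPSolvable p G)
    (hn : Nat.card (Sylow p G) < p ^ 2) :
    3 < p ∧ Nat.card (Sylow p G) = 1 + p ∨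
    3 < p ∧ (∃ a : ℕ, p = 2 ^ a + 1) ∧ 2 * Nat.card (Sylow p G) = (p - 1) * (p - 2) ∨
    ∃ s k : ℕ, 2 ≤ s ∧ s ≤ k ∧ s * k + 1 = p ∧ Nat.card (Sylow p G) = (p - k) * (p + s) := by
  have hp1 := hp.out.one_lt
  have h1 : Nat.card (Sylow p G) ≠ 1 := by
    intro h1
    obtain ⟨P⟩ : Nonempty (Sylow p G) := inferInstance
    have : Subsingleton (Sylow p G) := (Nat.card_eq_one_iff_unique.1 h1).1
    haveI : (P : Subgroup G).Normal := P.normal_of_subsingleton
    rcases (inferInstance : (P : Subgroup G).Normal).eq_bot_or_eq_top with e | e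
    · refine hG (PCore.isPSolvable_of_coprime ((hp.out.coprime_iff_not_dvd.mpr fun hd => ?_).symm))
      exact P.ne_bot_of_dvd_card hd e
    · exact hG (PCore.isPSolvable_of_isPGroup
        ((e ▸ P.2 : IsPGroup p (⊤ : Subgroup G)).of_equiv topEquiv))
  obtain ⟨P⟩ : Nonempty (Sylow p G) := inferInstance
  have hP := card_sylow_eq_prime hn h1 P
  have hperf : commutator G = ⊤ := by
    rcases (commutator_normal (⊤ : Subgroup G) ⊤).eq_bot_or_eq_top with h | h
    · exfalso
      haveI : Group.IsSolvable G := Group.isSolvable_of_comm fun a b => by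
        have : ⁅a, b⁆ ∈ commutator G := commutator_mem_commutator (mem_top a) (mem_top b)
        rw [_root_.commutator_def, h, mem_bot] at this
        exact commutatorElement_eq_one_iff_mul_comm.mp this
      exact hG PCore.isPSolvable_of_isSolvable
    · rw [_root_.commutator_def]; exact h
  have hcore : pPrimeCore p G = ⊥ := by
    rcases (inferInstance : (pPrimeCore p G).Normal).eq_bot_or_eq_top with h | h
    · exact h
    · exfalso
      have h2 := PCore.coprime_card_pPrimeCore (p := p) (G := G)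
      rw [h, card_top] at h2
      exact hG (PCore.isPSolvable_of_coprime h2)
  haveI : Fintype G := Fintype.ofFinite G
  obtain ⟨n₀, hn₀⟩ := BrauerPSL.sylow_mod_one (G := G) (p := p)
  have hn₀p : n₀ < p := by
    rw [hn₀, sq] at hn
    exact Nat.lt_of_mul_lt_mul_right (lt_of_le_of_lt (Nat.le_add_left _ 1) hn)
  by_cases hF : BrauerPSL.NonF p n₀
  · obtain ⟨t, ⟨S⟩⟩ := BrauerPSL.exists_setup P hperf hP hcore hn₀.dvd hF
    have hq2 : 2 ≤ BrauerPSL.qIdx P := by
      rw [BrauerPSL.qIdx_eq_relIndex S.sc]; exact BrauerPSL.two_le_relIndex hperf hP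
    have htq := S.D.htm
    obtain ⟨θ₀, hθ₀⟩ : S.D.Θ.Nonempty := Finset.card_pos.1 (by rw [S.D.cardΘ]; exact S.t_pos)
    have hpodd : p ≠ 2 → Odd p := hp.out.odd_of_ne_two
    have hcases : (n₀ = 1 ∧ t = 2) ∨ (BrauerPSL.qIdx P = 2 ∧ n₀ + 1 = t ∧ ∃ s : G, orderOf s = 2 ∧
        Nat.card (Subgroup.centralizer ({s} : Set G)) = p - 1 ∧
        ∀ u ∈ Subgroup.centralizer ({s} : Set G), u * u = 1 ∧ (u ≠ 1 → IsConj s u)) := by
      rcases S.D.hε with hε | hε
      · exact Or.inl (S.case_pos hε)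
      · exact S.case_neg hε hθ₀
    rcases hcases with ⟨hn1, ht⟩ | ⟨h2, hnt, s, hs, hcard, hC⟩
    · rw [ht] at htq
      exact Or.inl ⟨by omega, by rw [hn₀, hn1, one_mul]⟩
    · have := S.one_le
      rw [h2, ← hnt] at htq
      have h5 : 5 ≤ p := by omega
      have hn : n₀ * 2 + 3 = p := by omega
      have hGc : Nat.card G = p * ((p - 1) * (p - 2)) := by
        rw [BrauerPSL.card_eq_of_setup P S, h2, ← hn,
          show n₀ * 2 + 3 - 1 = 2 * n₀ + 2 by omega, show n₀ * 2 + 3 - 2 = 2 * n₀ + 1 by omega]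
        ring
      obtain ⟨a, -, -, -, -, hpa, -⟩ := BrauerPSL.exists_sl_two hp.out h5 hGc hs hcard hC
      refine Or.inr (Or.inl ⟨by omega, ⟨a, hpa⟩, ?_⟩)
      rw [hn₀, ← hn, show n₀ * 2 + 3 - 1 = 2 * n₀ + 2 by omega,
        show n₀ * 2 + 3 - 2 = 2 * n₀ + 1 by omega]
      ring
  · obtain ⟨h, u, hh, hu, e⟩ := not_not.mp hF
    have hh1 : h = 1 := by
      by_contra hne
      have h2 : 2 * (u * p) ≤ h * u * p := by
        rw [mul_assoc]; exact Nat.mul_le_mul_right _ (by omega)
      nlinarith [Nat.mul_le_mul_right (u + 1) (Nat.le_sub_one_of_lt hn₀p),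
        Nat.sub_add_cancel hp1.le, Nat.le_mul_of_pos_left p hu]
    subst hh1
    have hk : n₀ ≤ p + u := by omega
    refine Or.inr (Or.inr ⟨u + 1, p + u - n₀, by omega, by omega, ?_, ?_⟩)
    · have h3 : ((p + u - n₀ : ℕ) : ℤ) = p + u - n₀ := by rw [Nat.cast_sub hk]; push_cast; ring
      have e' : (n₀ : ℤ) * (u + 1) = 1 * u * p + u ^ 2 + u + 1 := by exact_mod_cast e
      have : (((u + 1) * (p + u - n₀) + 1 : ℕ) : ℤ) = p := by
        push_cast [h3]; linear_combination -e'
      exact_mod_cast this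
    · have hkp : p + u - n₀ ≤ p := by
        have : u * p < n₀ * (u + 1) := by nlinarith
        by_contra hc
        have h4 : n₀ < u := by omega
        have h5 := Nat.mul_lt_mul_of_pos_right h4 (Nat.succ_pos u)
        nlinarith
      have e' : (n₀ : ℤ) * (u + 1) = 1 * u * p + u ^ 2 + u + 1 := by exact_mod_cast e
      have : ((1 + n₀ * p : ℕ) : ℤ) = (((p - (p + u - n₀)) * (p + (u + 1)) : ℕ) : ℤ) := by
        rw [Nat.cast_mul, Nat.cast_sub hkp, Nat.cast_sub hk]
        push_cast
        linear_combination -e'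
      rw [hn₀]; exact_mod_cast this

/-- The exceptional numbers are not prime powers. -/
theorem not_primePow_of_factor {s k q e : ℕ} (hq : q.Prime) (hs : 2 ≤ s) (hsk : s ≤ k)
    (hp' : s * k + 1 = p) : (p - k) * (p + s) ≠ q ^ e := by
  intro h
  have hkp : k < p := by
    have : k ≤ s * k := Nat.le_mul_of_pos_left k (by omega)
    omega
  obtain ⟨i, -, hi⟩ := (Nat.dvd_prime_pow hq).mp (Dvd.intro _ h)
  obtain ⟨j, -, hj⟩ := (Nat.dvd_prime_pow hq).mp (Dvd.intro_left _ h)
  have hlt : q ^ i < q ^ j := by omega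
  have hij : i < j := (Nat.pow_lt_pow_iff_right hq.one_lt).mp hlt
  obtain ⟨c, hc⟩ : q ^ i ∣ q ^ j := pow_dvd_pow q hij.le
  have hc2 : 2 ≤ c := by
    rcases c with _ | _ | c
    · have := pow_pos hq.pos j; rw [mul_zero] at hc; omega
    · have h9 : q ^ j = q ^ i := by simpa using hc
      omega
    · omega
  have h1 : p + s = (p - k) * c := by rw [hj, hi, hc]
  obtain ⟨r, hr⟩ := Nat.exists_eq_add_of_le hkp.le
  rw [show p - k = r by omega] at h1
  have h2 : r * 2 ≤ r * c := Nat.mul_le_mul_left r hc2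
  rcases Nat.lt_or_ge s 3 with hs3 | hs3
  · have hs2 : s = 2 := by omega
    subst hs2
    have hr1 : r = k + 1 := by omega
    subst hr1
    rcases Nat.lt_or_ge c 3 with hc3 | hc3
    · have : c = 2 := by omega
      subst this; omega
    · have : (k + 1) * 3 ≤ (k + 1) * c := Nat.mul_le_mul_left _ hc3
      omega
  · have : 3 * k ≤ s * k := Nat.mul_le_mul_right k hs3
    nlinarith [Nat.mul_le_mul (Nat.sub_le_sub_right hs3 2) (Nat.sub_le_sub_right hsk 0)]

end Cfsg.Agent.SylowCount.BelowSq
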