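import Cfsg.Agent.Lib.Coprime.FixedProduct
import Cfsg.Agent.Lib.Coprime.Sylow
import Cfsg.Agent.Lib.SylowCount.Basic
import Cfsg.Agent.Lib.PCore.PSolvable
import Mathlib.Analysis.MeanInequalities

/-!
Gheri's inequality: in a `p`-soluble group with `n` Sylow `p`-subgroups of order `|P|` the number
`u` of `p`-elements satisfies `u^p ≥ |P|^p n^(p-1)`.
-/

set_option autoImplicit false
set_option linter.style.haveILetI false

namespace Cfsg.Agent.SylowCount.Gheri

open Subgroup Cfsg

universe u

/-- AM-GM in the natural numbers. -/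
theorem pow_card_mul_prod_le {ι : Type*} (s : Finset ι) (a : ι → ℕ) :
    s.card ^ s.card * ∏ i ∈ s, a i ≤ (∑ i ∈ s, a i) ^ s.card := by
  rcases s.eq_empty_or_nonempty with rfl | hs
  · simp
  have hN : (0 : ℝ) < s.card := by exact_mod_cast hs.card_pos
  have h := Real.geom_mean_le_arith_mean s (fun _ => (1 : ℝ)) (fun i => (a i : ℝ)) (fun _ _ => zero_le_one)
    (by simpa using hN) (fun i _ => Nat.cast_nonneg _)
  simp only [Real.rpow_one, Finset.sum_const, nsmul_eq_mul, mul_one, one_mul] at h
  have hP : (0 : ℝ) ≤ ∏ i ∈ s, (a i : ℝ) := Finset.prod_nonneg fun i _ => Nat.cast_nonneg _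
  have h2 := pow_le_pow_left₀ (Real.rpow_nonneg hP _) h s.card
  rw [Real.rpow_inv_natCast_pow hP hs.card_pos.ne', div_pow, le_div_iff₀ (pow_pos hN _)] at h2
  rw [mul_comm]
  exact_mod_cast h2

variable {G : Type u} [Group G] [Finite G] {p : ℕ} [hp : Fact p.Prime]

/-- The `q`-part of a centraliser in a normal subgroup is seen in an invariant Sylow subgroup. -/
theorem card_sylow_inf_centralizer {N B : Subgroup G} [N.Normal]
    (hcop : (Nat.card B).Coprime (Nat.card N)) (hB : Group.IsSolvable B) {q : ℕ} [Fact q.Prime]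
    (Q : Sylow q N) (hQ : B ≤ normalizer (((Q : Subgroup N).map N.subtype : Subgroup G) : Set G)) :
    Nat.card ↥((Q : Subgroup N).map N.subtype ⊓ centralizer (B : Set G)) =
      q ^ (Nat.card ↥(N ⊓ centralizer (B : Set G))).factorization q := by
  set C := N ⊓ centralizer (B : Set G) with hC
  set Q' := (Q : Subgroup N).map N.subtype with hQ'
  obtain ⟨R⟩ := (inferInstance : Nonempty (Sylow q C))
  rw [← R.card_eq_multiplicity]
  refine le_antisymm ?_ ?_
  · have hle : Q' ⊓ centralizer (B : Set G) ≤ C := le_inf (inf_le_left.trans (map_subtype_le _)) inf_le_right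
    have hp' : IsPGroup q ((Q' ⊓ centralizer (B : Set G)).subgroupOf C) :=
      ((Q.2.map N.subtype).to_le inf_le_left).comap_subtype
    obtain ⟨T, hT⟩ := hp'.exists_le_sylow
    calc Nat.card ↥(Q' ⊓ centralizer (B : Set G))
        = Nat.card ↥((Q' ⊓ centralizer (B : Set G)).subgroupOf C) :=
          (Nat.card_congr (subgroupOfEquivOfLe hle).toEquiv).symm
      _ ≤ Nat.card (T : Subgroup C) := Subgroup.card_le_of_le hT
      _ = Nat.card (R : Subgroup C) := by rw [T.card_eq_multiplicity, R.card_eq_multiplicity]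
  · set U := (R : Subgroup C).map C.subtype with hU
    have hUC : U ≤ C := map_subtype_le _
    have hBU : B ≤ normalizer (U : Set G) := by
      refine le_trans ?_ (centralizer_le_normalizer (s := (U : Set G)))
      exact fun b hb => mem_centralizer_iff.mpr fun y hy =>
        (mem_centralizer_iff.mp (mem_inf.mp (hUC hy)).2 b hb).symm
    have hBN : B ≤ normalizer (N : Set G) := by rw [normalizer_eq_top (H := N)]; exact le_top
    obtain ⟨T, hUT, hT⟩ := Coprime.exists_invariant_sylow_ge hBN hcop (Or.inl hB)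
      (hUC.trans inf_le_left) (R.2.map C.subtype) hBU
    obtain ⟨c, hc, hcT⟩ := Coprime.exists_centralizer_smul_sylow hBN hcop (Or.inl hB) T Q hT hQ
    have hle : U.map (MulAut.conj (c : G)).toMonoidHom ≤ Q' ⊓ centralizer (B : Set G) := by
      rintro _ ⟨y, hy, rfl⟩
      refine mem_inf.mpr ⟨?_, mul_mem (mul_mem hc (mem_inf.mp (hUC hy)).2) (inv_mem hc)⟩
      obtain ⟨t, ht, rfl⟩ := hUT hy
      refine ⟨c * t * c⁻¹, ?_, rfl⟩
      rw [← hcT]
      exact ⟨t, ht, rfl⟩
    calc Nat.card (R : Subgroup C) = Nat.card U := (card_map_of_injective C.subtype_injective).symm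
      _ = Nat.card ↥(U.map (MulAut.conj (c : G)).toMonoidHom) :=
          (card_map_of_injective (MulAut.conj (c : G)).injective).symm
      _ ≤ _ := Subgroup.card_le_of_le hle

theorem centralizer_zpowers (x : G) : centralizer (zpowers x : Set G) = centralizer {x} := by
  rw [zpowers_eq_closure, centralizer_closure]

/-- Fixed points of a coprime `p`-group, product over its elements. -/
theorem prod_inf_centralizer_le {P N : Subgroup G} [Fintype P] [N.Normal] (hP : IsPGroup p P)
    (hpN : ¬ p ∣ Nat.card N) :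
    ∏ x : P, Nat.card ↥(N ⊓ centralizer {(x : G)}) ^ p ≤
      Nat.card N ^ Fintype.card P *
        Nat.card ↥(N ⊓ centralizer (P : Set G)) ^ ((p - 1) * Fintype.card P) := by
  classical
  have hne : Nat.card N ^ Fintype.card P *
      Nat.card ↥(N ⊓ centralizer (P : Set G)) ^ ((p - 1) * Fintype.card P) ≠ 0 :=
    mul_ne_zero (pow_ne_zero _ Nat.card_pos.ne') (pow_ne_zero _ Nat.card_pos.ne')
  have hne' : ∀ x : P, Nat.card ↥(N ⊓ centralizer {(x : G)}) ^ p ≠ 0 := fun x =>
    pow_ne_zero _ Nat.card_pos.ne'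
  refine Nat.le_of_dvd (Nat.pos_of_ne_zero hne) ((Nat.factorization_le_iff_dvd
    (Finset.prod_ne_zero_iff.mpr fun x _ => hne' x) hne).mp fun q => ?_)
  by_cases hq : q.Prime
  swap
  · simp [Nat.factorization_eq_zero_of_not_prime _ hq]
  haveI := Fact.mk hq
  have hcop : (Nat.card P).Coprime (Nat.card N) := by
    obtain ⟨k, hk⟩ := hP.exists_card_eq
    rw [hk]; exact (hp.out.coprime_iff_not_dvd.mpr hpN).pow_left k
  haveI := hP.isNilpotent
  have hPN : P ≤ normalizer (N : Set G) := by rw [normalizer_eq_top (H := N)]; exact le_top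
  obtain ⟨Q, hQ⟩ := Coprime.exists_invariant_sylow hPN hcop (Or.inl inferInstance) q
  set Q' := (Q : Subgroup N).map N.subtype with hQ'
  let φ : P →* MulAut Q' := Q'.normalizerMonoidHom.comp (Subgroup.inclusion hQ)
  have hφ : ∀ (x : P) (v : Q'), ((φ x v : Q') : G) = x * v * (x : G)⁻¹ := fun x v => rfl
  have hfix : ∀ x : P, Nat.card (Coprime.FixedProduct.fix (φ x)) =
      q ^ (Nat.card ↥(N ⊓ centralizer {(x : G)})).factorization q := by
    intro x
    have hsol : Group.IsSolvable (zpowers (x : G)) :=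
      Group.isSolvable_of_comm fun u v => mul_comm' u v
    rw [← centralizer_zpowers, ← card_sylow_inf_centralizer
      (hcop.coprime_dvd_left (card_dvd_of_le (zpowers_le.mpr x.2))) hsol Q
      ((zpowers_le.mpr x.2).trans hQ)]
    exact Nat.card_congr
      { toFun := fun v => ⟨((v : Q') : G), (v : Q').2, by
          refine (le_of_eq (centralizer_zpowers (x : G)).symm) (mem_centralizer_singleton_iff.mpr ?_)
          have h := congrArg Subtype.val v.2
          rw [hφ] at h
          exact (mul_inv_eq_iff_eq_mul.mp h).symm⟩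
        invFun := fun v => ⟨⟨(v : G), (mem_inf.mp v.2).1⟩, Subtype.ext (by
          rw [hφ]
          have h := (le_of_eq (centralizer_zpowers (x : G))) (mem_inf.mp v.2).2
          rw [mem_centralizer_singleton_iff] at h
          exact mul_inv_eq_iff_eq_mul.mpr h.symm)⟩
        left_inv := fun v => rfl
        right_inv := fun v => rfl }
  have hfixP : Nat.card (Coprime.fixedBy φ) =
      q ^ (Nat.card ↥(N ⊓ centralizer (P : Set G))).factorization q := by
    rw [← card_sylow_inf_centralizer hcop inferInstance Q hQ]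
    exact Nat.card_congr
      { toFun := fun v => ⟨((v : Q') : G), (v : Q').2, mem_centralizer_iff.mpr fun x hx => by
          have h := congrArg Subtype.val ((v.2 : ∀ a, φ a (v : Q') = v) ⟨x, hx⟩)
          rw [hφ] at h
          exact mul_inv_eq_iff_eq_mul.mp h⟩
        invFun := fun v => ⟨⟨(v : G), (mem_inf.mp v.2).1⟩, fun a => Subtype.ext (by
          rw [hφ]
          exact mul_inv_eq_iff_eq_mul.mpr (mem_centralizer_iff.mp (mem_inf.mp v.2).2 a a.2))⟩
        left_inv := fun v => rfl
        right_inv := fun v => rfl }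
  have hQc : Nat.card Q' = q ^ (Nat.card N).factorization q := by
    rw [card_map_of_injective N.subtype_injective, Q.card_eq_multiplicity]
  have hpQ : ¬ p ∣ Nat.card Q' := fun h => hpN (h.trans (card_dvd_of_le (map_subtype_le _)))
  have key : ∏ a : P, Nat.card (Coprime.FixedProduct.fix (φ a)) ^ p ≤
      Nat.card Q' ^ Fintype.card P * Nat.card (Coprime.fixedBy φ) ^ ((p - 1) * Fintype.card P) :=
    Coprime.FixedProduct.inequality_pgroup hP (q := q) _ (Q.2.map N.subtype) hpQ φ rfl
  simp only [hfix, hfixP] at key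
  rw [hQc] at key
  simp only [← pow_mul, ← pow_add, Finset.prod_pow_eq_pow_sum] at key
  rw [Nat.pow_le_pow_iff_right hq.one_lt] at key
  rw [Nat.factorization_prod fun x _ => hne' x, Nat.factorization_mul (pow_ne_zero _ Nat.card_pos.ne')
    (pow_ne_zero _ Nat.card_pos.ne'), Finsupp.finsetSum_apply, Finsupp.add_apply]
  simp only [Nat.factorization_pow, Finsupp.smul_apply, smul_eq_mul]
  refine le_trans (le_of_eq (Finset.sum_congr rfl fun x _ => mul_comm _ _)) (key.trans (le_of_eq ?_))
  ring

/-- Gheri's inequality, weighted by a positive class function. -/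
theorem weighted : ∀ (n : ℕ) {G : Type u} [Group G] [Finite G], IsPSolvable p G → Nat.card G = n →
    ∀ (P : Sylow p G) (ψ : G → ℕ), (∀ g, 0 < ψ g) → (∀ g x : G, ψ (x * g * x⁻¹) = ψ g) →
    ∀ [Fintype G] [DecidablePred fun g : G => ∃ k : ℕ, orderOf g = p ^ k] [Fintype (P : Subgroup G)],
      Fintype.card (P : Subgroup G) ^ (p * Fintype.card (P : Subgroup G)) *
          Nat.card (Sylow p G) ^ ((p - 1) * Fintype.card (P : Subgroup G)) *
          ∏ x : (P : Subgroup G), ψ x ^ p ≤
        (∑ g ∈ Finset.univ.filter (fun g : G => ∃ k : ℕ, orderOf g = p ^ k), ψ g) ^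
          (p * Fintype.card (P : Subgroup G)) := by
  intro n
  induction n using Nat.strong_induction_on with
  | _ n ih =>
    intro G _ _ hG hn P ψ hpos hψ _ _ _
    classical
    subst hn
    rcases subsingleton_or_nontrivial G with hs | hnt
    · have h1 : Fintype.card (P : Subgroup G) = 1 := Fintype.card_eq_one_iff.mpr
        ⟨1, fun x => Subtype.ext (Subsingleton.elim _ _)⟩
      have h2 : Nat.card (Sylow p G) = 1 := by
        haveI : Subsingleton (Sylow p G) := ⟨fun a b => Sylow.ext (Subgroup.ext fun x => by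
          rw [Subsingleton.elim x 1]; exact ⟨fun _ => one_mem _, fun _ => one_mem _⟩)⟩
        exact Nat.card_of_subsingleton P
      rw [h1, h2, Fintype.prod_subsingleton _ (1 : (P : Subgroup G)), one_pow, one_pow, one_mul, one_mul,
        mul_one]
      refine Nat.pow_le_pow_left ?_ p
      exact Finset.single_le_sum (f := ψ) (fun g _ => Nat.zero_le _)
        (Finset.mem_filter.mpr ⟨Finset.mem_univ ((1 : (P : Subgroup G)) : G), 0, by simp⟩)
    obtain ⟨N, hNn, hNb, hN⟩ : ∃ N : Subgroup G, N.Normal ∧ N ≠ ⊥ ∧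
        (IsPGroup p N ∨ (Nat.card N).Coprime p) := by
      rcases PCore.pCore_ne_bot_or_pPrimeCore_ne_bot hG with h | h
      · exact ⟨_, inferInstance, h, Or.inl PCore.isPGroup_pCore⟩
      · exact ⟨_, inferInstance, h, Or.inr PCore.coprime_card_pPrimeCore⟩
    have hlt : Nat.card (G ⧸ N) < Nat.card G := by
      rw [card_eq_card_quotient_mul_card_subgroup N]
      exact lt_mul_of_one_lt_right Nat.card_pos ((one_lt_card_iff_ne_bot N).2 hNb)
    set π := QuotientGroup.mk' N with hπ
    let Pb := P.mapSurjective (f := π) (QuotientGroup.mk'_surjective N)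
    letI : Fintype (G ⧸ N) := Fintype.ofFinite _
    letI : Fintype (Pb : Subgroup (G ⧸ N)) := Fintype.ofFinite _
    let pel : G → Prop := fun g => ∃ k : ℕ, orderOf g = p ^ k
    have hpelP : ∀ x : (P : Subgroup G), pel x := fun x => by
      obtain ⟨k, hk⟩ := IsPGroup.iff_orderOf.mp P.2 x
      exact ⟨k, by rw [Subgroup.orderOf_coe]; exact hk⟩
    have hpelconj : ∀ g x : G, pel (x * g * x⁻¹) ↔ pel g := fun g x => by
      show (∃ k, orderOf (MulAut.conj x g) = p ^ k) ↔ _
      rw [MulEquiv.orderOf_eq]
    let F : G ⧸ N → ℕ := fun y => ∑ g ∈ Finset.univ.filter (fun g : G => pel g ∧ π g = y), ψ g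
    have hFconj : ∀ y x : G ⧸ N, F (x * y * x⁻¹) = F y := by
      intro y x
      obtain ⟨x, rfl⟩ := QuotientGroup.mk'_surjective N x
      refine Finset.sum_equiv (MulAut.conj x⁻¹).toEquiv (fun g => ?_) fun g _ => ?_
      · simp only [Finset.mem_filter, Finset.mem_univ, true_and]
        show pel g ∧ π g = _ ↔ pel (x⁻¹ * g * x⁻¹⁻¹) ∧ π (x⁻¹ * g * x⁻¹⁻¹) = y
        rw [hpelconj g x⁻¹]
        simp only [hπ, map_mul, map_inv, inv_inv]
        refine and_congr_right fun _ => ⟨fun h => ?_, fun h => ?_⟩
        · rw [h]; group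
        · rw [← h]; group
      · exact (hψ g x⁻¹).symm
    let ψb : G ⧸ N → ℕ := fun y => max (F y) 1
    -- the value `F` at the image of the Sylow subgroup is positive
    have hFP : ∀ x : (P : Subgroup G), 0 < F (π x) := fun x =>
      lt_of_lt_of_le (hpos x) (Finset.single_le_sum (f := ψ) (fun g _ => Nat.zero_le _)
        (Finset.mem_filter.mpr ⟨Finset.mem_univ _, hpelP x, rfl⟩))
    have hFpel : ∀ y : G ⧸ N, (∃ k : ℕ, orderOf y = p ^ k) → 0 < F y := by
      intro y hy
      obtain ⟨k, hk⟩ := hy
      have hyp : IsPGroup p (zpowers y) := IsPGroup.of_card (n := k) (by rw [Nat.card_zpowers, hk])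
      obtain ⟨T, hT⟩ := hyp.exists_le_sylow
      obtain ⟨c, hc⟩ := MulAction.exists_smul_eq (G ⧸ N) Pb T
      have hyT := hT (mem_zpowers y)
      rw [← hc] at hyT
      obtain ⟨_, ⟨x, hx, rfl⟩, e⟩ := hyT
      rw [← e]
      exact lt_of_lt_of_le (hFP ⟨x, hx⟩) (le_of_eq (hFconj (π x) c).symm)
    have hIH := ih _ hlt (PCore.isPSolvable_quotient hG N) rfl Pb ψb (fun y => by simp [ψb])
      (fun y x => by simp only [ψb, hFconj])
    -- the sum over `p`-elements of the quotient
    have hS : ∑ y ∈ Finset.univ.filter (fun y : G ⧸ N => ∃ k : ℕ, orderOf y = p ^ k), ψb y =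
        ∑ g ∈ Finset.univ.filter (fun g : G => pel g), ψ g := by
      rw [← Finset.sum_fiberwise_of_maps_to (s := Finset.univ.filter (fun g : G => pel g))
        (t := Finset.univ.filter (fun y : G ⧸ N => ∃ k : ℕ, orderOf y = p ^ k)) (g := π) (f := ψ) ?_]
      · refine Finset.sum_congr rfl fun y hy => ?_
        have hy' := hFpel y (Finset.mem_filter.mp hy).2
        show max (F y) 1 = _
        rw [max_eq_left hy', Finset.filter_filter]
      · intro g hg
        obtain ⟨k, hk⟩ := (Finset.mem_filter.mp hg).2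
        obtain ⟨j, -, hj⟩ := (Nat.dvd_prime_pow hp.out).mp ((orderOf_map_dvd π g).trans hk.dvd)
        exact Finset.mem_filter.mpr ⟨Finset.mem_univ _, j, hj⟩
    rw [hS] at hIH
    -- `π` from `P` onto its image
    let θ : ↥(P : Subgroup G) → (Pb : Subgroup (G ⧸ N)) := fun x => ⟨π x, x, x.2, rfl⟩
    have hψb : ∀ x : (P : Subgroup G), ψb (θ x) = F (π x) := fun x => max_eq_left (hFP x)
    set S := ∑ g ∈ Finset.univ.filter (fun g : G => pel g), ψ g with hSdef
    show _ ≤ S ^ _
    rcases hN with hNp | hNc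
    · -- `N` is a `p`-group
      have hNP : N ≤ (P : Subgroup G) := hNp.le_sylow_of_normal P
      have hfib : ∀ y : (Pb : Subgroup (G ⧸ N)),
          (Finset.univ.filter fun x => θ x = y).card = Nat.card N := by
        rintro ⟨_, x₀, hx₀, rfl⟩
        rw [← Fintype.card_subtype, ← Nat.card_eq_fintype_card]
        refine Nat.card_congr
          { toFun := fun x => ⟨x₀⁻¹ * ((x : (P : Subgroup G)) : G), ?_⟩
            invFun := fun m => ⟨⟨x₀ * m, mul_mem hx₀ (hNP m.2)⟩, Subtype.ext ?_⟩
            left_inv := fun x => Subtype.ext (Subtype.ext (mul_inv_cancel_left x₀ _))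
            right_inv := fun m => Subtype.ext (inv_mul_cancel_left x₀ _) }
        · exact QuotientGroup.eq.mp (congrArg Subtype.val x.2).symm
        · show π (x₀ * m) = π x₀
          rw [map_mul, show π (m : G) = 1 from (QuotientGroup.eq_one_iff _).mpr m.2, mul_one]
      have hcard : Fintype.card (P : Subgroup G) = Fintype.card (Pb : Subgroup (G ⧸ N)) * Nat.card N := by
        rw [← Finset.card_univ, Finset.card_eq_sum_card_fiberwise
          (f := θ) (s := Finset.univ) (t := Finset.univ) (fun x _ => Finset.mem_univ _),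
          Finset.sum_congr rfl (fun y _ => hfib y), Finset.sum_const, smul_eq_mul, Finset.card_univ]
      have hprod : Nat.card N ^ Fintype.card (P : Subgroup G) * ∏ x : (P : Subgroup G), ψ x ≤
          ∏ y : (Pb : Subgroup (G ⧸ N)), ψb y ^ Nat.card N := by
        rw [← Finset.prod_fiberwise_of_maps_to (s := Finset.univ) (t := Finset.univ) (g := θ)
          (fun x _ => Finset.mem_univ _) (fun x : (P : Subgroup G) => ψ x), hcard, mul_comm (Fintype.card _),
          pow_mul, ← Finset.card_univ (α := (Pb : Subgroup (G ⧸ N))), ← Finset.prod_const,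
          ← Finset.prod_mul_distrib]
        refine Finset.prod_le_prod' fun y _ => ?_
        have h1 := pow_card_mul_prod_le (Finset.univ.filter fun x => θ x = y)
          (fun x : (P : Subgroup G) => ψ x)
        rw [hfib y] at h1
        refine h1.trans (Nat.pow_le_pow_left ?_ _)
        refine le_trans ?_ (le_max_left (F y) 1)
        calc ∑ x ∈ Finset.univ.filter (fun x => θ x = y), ψ (x : G)
            = ∑ g ∈ (Finset.univ.filter fun x => θ x = y).map (Function.Embedding.subtype _), ψ g := by
              rw [Finset.sum_map]; rfl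
          _ ≤ F y := by
              refine Finset.sum_le_sum_of_subset fun g hg => ?_
              obtain ⟨x, hx, rfl⟩ := Finset.mem_map.mp hg
              exact Finset.mem_filter.mpr ⟨Finset.mem_univ _, hpelP x,
                congrArg Subtype.val (Finset.mem_filter.mp hx).2⟩
      have hsyl : Nat.card (Sylow p (G ⧸ N)) = Nat.card (Sylow p G) := card_sylow_quotient_pGroup N hNp
      rw [hsyl] at hIH
      set b := Fintype.card (Pb : Subgroup (G ⧸ N))
      set m := Nat.card N
      set v := Nat.card (Sylow p G)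
      rw [hcard, Finset.prod_pow]
      have hIH' := Nat.pow_le_pow_left hIH m
      rw [hcard] at hprod
      calc (b * m) ^ (p * (b * m)) * v ^ ((p - 1) * (b * m)) * (∏ x : (P : Subgroup G), ψ x) ^ p
          = b ^ (p * (b * m)) * v ^ ((p - 1) * (b * m)) *
              (m ^ (b * m) * ∏ x : (P : Subgroup G), ψ x) ^ p := by ring
        _ ≤ b ^ (p * (b * m)) * v ^ ((p - 1) * (b * m)) * (∏ y : (Pb : Subgroup (G ⧸ N)), ψb y ^ m) ^ p :=
            Nat.mul_le_mul_left _ (Nat.pow_le_pow_left hprod p)
        _ = (b ^ (p * b) * v ^ ((p - 1) * b) * ∏ y : (Pb : Subgroup (G ⧸ N)), ψb y ^ p) ^ m := by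
            rw [Finset.prod_pow, Finset.prod_pow]; ring
        _ ≤ (S ^ (p * b)) ^ m := hIH'
        _ = S ^ (p * (b * m)) := by ring
    · -- `N` is a `p'`-group
      have hpN : ¬ p ∣ Nat.card N := hp.out.coprime_iff_not_dvd.mp hNc.symm
      have hdisj : ∀ g, g ∈ (P : Subgroup G) → g ∈ N → g = 1 := fun g hg hg' => by
        obtain ⟨k, hk⟩ := IsPGroup.iff_orderOf.mp P.2 ⟨g, hg⟩
        rw [Subgroup.orderOf_mk] at hk
        have h1 : orderOf g ∣ Nat.card N := by simpa using orderOf_dvd_natCard (⟨g, hg'⟩ : N)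
        exact orderOf_eq_one_iff.mp (Nat.eq_one_of_dvd_coprimes (hNc.symm.pow_left k) hk.dvd h1)
      have hθ : Function.Bijective θ := by
        refine ⟨fun a b hab => ?_, fun y => ?_⟩
        · have h1 : (a : G)⁻¹ * b ∈ N := QuotientGroup.eq.mp (congrArg Subtype.val hab)
          have h2 := hdisj _ (mul_mem (inv_mem a.2) b.2) h1
          exact Subtype.ext (inv_mul_eq_one.mp h2)
        · obtain ⟨_, x, hx, rfl⟩ := y
          exact ⟨⟨x, hx⟩, rfl⟩
      have hcard : Fintype.card (P : Subgroup G) = Fintype.card (Pb : Subgroup (G ⧸ N)) :=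
        Fintype.card_of_bijective hθ
      have hF : ∀ x : (P : Subgroup G),
          Nat.card N * ψ x ≤ Nat.card ↥(N ⊓ centralizer {(x : G)}) * ψb (θ x) := by
        intro x
        rw [hψb]
        let D := (centralizer {(x : G)}).subgroupOf N
        have hD : Nat.card D = Nat.card ↥(N ⊓ centralizer {(x : G)}) := by
          show Nat.card ((centralizer {(x : G)}).subgroupOf N) = _
          rw [← inf_subgroupOf_left]
          exact Nat.card_congr (subgroupOfEquivOfLe inf_le_left).toEquiv
        letI : Fintype (N ⧸ D) := Fintype.ofFinite _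
        rw [← hD, ← card_mul_index D, mul_assoc]
        refine Nat.mul_le_mul_left _ ?_
        let c : N ⧸ D → G := fun m => ((m.out : N) : G) * x * ((m.out : N) : G)⁻¹
        have hcinj : Function.Injective c := by
          intro a b hab
          rw [← QuotientGroup.out_eq' a, ← QuotientGroup.out_eq' b, QuotientGroup.eq]
          refine mem_subgroupOf.mpr (mem_centralizer_singleton_iff.mpr ?_)
          have hab' : ((a.out : N) : G) * x * ((a.out : N) : G)⁻¹ =
              ((b.out : N) : G) * x * ((b.out : N) : G)⁻¹ := hab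
          push_cast
          calc ((a.out : N) : G)⁻¹ * (b.out : N) * (x : G)
              = ((a.out : N) : G)⁻¹ * (((b.out : N) : G) * x * ((b.out : N) : G)⁻¹) * (b.out : N) := by group
            _ = (x : G) * (((a.out : N) : G)⁻¹ * (b.out : N)) := by rw [← hab']; group
        calc D.index * ψ x = ∑ _m : N ⧸ D, ψ (x : G) := by
              rw [Finset.sum_const, Finset.card_univ, smul_eq_mul, index_eq_card, Nat.card_eq_fintype_card]
          _ = ∑ g ∈ Finset.univ.map ⟨c, hcinj⟩, ψ g := by
              rw [Finset.sum_map]; exact Finset.sum_congr rfl fun m _ => (hψ (x : G) _).symm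
          _ ≤ F (π x) := by
              refine Finset.sum_le_sum_of_subset fun g hg => ?_
              obtain ⟨m, -, rfl⟩ := Finset.mem_map.mp hg
              refine Finset.mem_filter.mpr ⟨Finset.mem_univ _, (hpelconj _ _).mpr (hpelP x), ?_⟩
              show π (((m.out : N) : G) * x * ((m.out : N) : G)⁻¹) = π x
              rw [map_mul, map_mul, map_inv, show π ((m.out : N) : G) = 1 from
                (QuotientGroup.eq_one_iff _).mpr (m.out : N).2, one_mul, inv_one, mul_one]
      -- the number of Sylow subgroups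
      have hnorm : normalizer ((P : Subgroup G) : Set G) ⊓ N = N ⊓ centralizer ((P : Subgroup G) : Set G) := by
        refine le_antisymm (fun g hg => ⟨(mem_inf.mp hg).2, mem_centralizer_iff.mpr fun y hy => ?_⟩)
          (fun g hg => ⟨centralizer_le_normalizer _ (mem_inf.mp hg).2, (mem_inf.mp hg).1⟩)
        obtain ⟨hg1, hg2⟩ := mem_inf.mp hg
        have h1 : g * y * g⁻¹ * y⁻¹ = 1 := hdisj _
          (mul_mem ((mem_normalizer_iff.mp hg1 y).mp hy) (inv_mem hy))
          (by rw [show g * y * g⁻¹ * y⁻¹ = g * (y * g⁻¹ * y⁻¹) by group]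
              exact mul_mem hg2 (hNn.conj_mem _ (inv_mem hg2) y))
        exact (mul_inv_eq_iff_eq_mul.mp (mul_inv_eq_one.mp h1)).symm
      have hsyl : Nat.card (Sylow p G) * Nat.card ↥(N ⊓ centralizer ((P : Subgroup G) : Set G)) =
          Nat.card (Sylow p (G ⧸ N)) * Nat.card N := by
        rw [card_sylow_eq P N, mul_assoc, ← inf_relIndex_right, hnorm, relIndex,
          ← Nat.card_congr (subgroupOfEquivOfLe
            (inf_le_left : N ⊓ centralizer ((P : Subgroup G) : Set G) ≤ N)).toEquiv,
          mul_comm _ (Nat.card ↥((N ⊓ centralizer ((P : Subgroup G) : Set G)).subgroupOf N)), card_mul_index]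
      set a := Fintype.card (P : Subgroup G)
      set m := Nat.card N
      set v := Nat.card (Sylow p G)
      set vb := Nat.card (Sylow p (G ⧸ N))
      set cP := Nat.card ↥(N ⊓ centralizer ((P : Subgroup G) : Set G))
      rw [← hcard] at hIH
      have hb : ∏ y : (Pb : Subgroup (G ⧸ N)), ψb y ^ p = ∏ x : (P : Subgroup G), ψb (θ x) ^ p :=
        (hθ.prod_comp (fun y => ψb y ^ p)).symm
      have h1 : m ^ (p * a) * (∏ x : (P : Subgroup G), ψ x ^ p) ≤
          m ^ a * cP ^ ((p - 1) * a) * ∏ y : (Pb : Subgroup (G ⧸ N)), ψb y ^ p := by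
        rw [hb]
        calc m ^ (p * a) * ∏ x : (P : Subgroup G), ψ x ^ p
            = ∏ x : (P : Subgroup G), (m * ψ x) ^ p := by
              simp only [mul_pow]
              rw [Finset.prod_mul_distrib, Finset.prod_const, Finset.card_univ, ← pow_mul]
          _ ≤ ∏ x : (P : Subgroup G), (Nat.card ↥(N ⊓ centralizer {(x : G)}) * ψb (θ x)) ^ p :=
              Finset.prod_le_prod' fun x _ => Nat.pow_le_pow_left (hF x) p
          _ ≤ _ := by
              simp only [mul_pow]
              rw [Finset.prod_mul_distrib]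
              exact Nat.mul_le_mul_right _ (prod_inf_centralizer_le P.2 hpN)
      have hpa : p * a = (p - 1) * a + a := by
        obtain ⟨r, rfl⟩ : ∃ r, p = r + 1 := ⟨p - 1, by have := hp.out.pos; omega⟩
        rw [Nat.add_sub_cancel]; ring
      refine Nat.le_of_mul_le_mul_right ?_ (pow_pos (Nat.card_pos : 0 < cP) ((p - 1) * a))
      calc a ^ (p * a) * v ^ ((p - 1) * a) * (∏ x : (P : Subgroup G), ψ x ^ p) * cP ^ ((p - 1) * a)
          = a ^ (p * a) * (v * cP) ^ ((p - 1) * a) * ∏ x : (P : Subgroup G), ψ x ^ p := by ring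
        _ = a ^ (p * a) * vb ^ ((p - 1) * a) * (m ^ ((p - 1) * a) * ∏ x : (P : Subgroup G), ψ x ^ p) := by
            rw [hsyl]; ring
        _ ≤ a ^ (p * a) * vb ^ ((p - 1) * a) * (cP ^ ((p - 1) * a) * ∏ y : (Pb : Subgroup (G ⧸ N)), ψb y ^ p) := by
            refine Nat.mul_le_mul_left _ (Nat.le_of_mul_le_mul_left ?_ (pow_pos (Nat.card_pos : 0 < m) a))
            calc m ^ a * (m ^ ((p - 1) * a) * ∏ x : (P : Subgroup G), ψ x ^ p)
                = m ^ (p * a) * ∏ x : (P : Subgroup G), ψ x ^ p := by rw [hpa]; ring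
              _ ≤ _ := h1.trans (le_of_eq (by ring))
        _ = a ^ (p * a) * vb ^ ((p - 1) * a) * (∏ y : (Pb : Subgroup (G ⧸ N)), ψb y ^ p) * cP ^ ((p - 1) * a) := by ring
        _ ≤ S ^ (p * a) * cP ^ ((p - 1) * a) := Nat.mul_le_mul_right _ hIH

/-- **Gheri's inequality**. -/
theorem gheri {G : Type u} [Group G] [Finite G] (hG : IsPSolvable p G) (P : Sylow p G) :
    Nat.card (P : Subgroup G) ^ p * Nat.card (Sylow p G) ^ (p - 1) ≤
      Nat.card {g : G // ∃ k : ℕ, orderOf g = p ^ k} ^ p := by
  classical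
  letI : Fintype G := Fintype.ofFinite G
  have h := weighted (p := p) (Nat.card G) hG rfl P (fun _ => 1) (fun _ => one_pos) (fun _ _ => rfl)
  simp only [one_pow, Finset.prod_const_one, mul_one, Finset.sum_const, smul_eq_mul] at h
  rw [← Nat.card_eq_fintype_card, pow_mul, pow_mul, pow_mul, ← mul_pow, ← Fintype.card_subtype,
    ← Nat.card_eq_fintype_card] at h
  exact (Nat.pow_le_pow_iff_left Nat.card_pos.ne').mp h

end Cfsg.Agent.SylowCount.Gheri
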